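import Groth.Agent.Lib.PicRep20.Deg
import Groth.Agent.Lib.ProjSpace.BaseChange
import Groth.Agent.S10958
import Groth.Prelude.Def_RelProj

/-!
# Fine and coarse moduli of line bundles of given degree
-/

set_option autoImplicit false
set_option linter.style.haveILetI false
set_option linter.unusedSectionVars false
set_option maxHeartbeats 2000000
set_option backward.isDefEq.respectTransparency false
set_option backward.isDefEq.respectTransparency.types false

universe u

open CategoryTheory CategoryTheory.Limits AlgebraicGeometry TopologicalSpace Opposite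

noncomputable section

namespace Groth.Agent.PicRep20

open Groth.Agent.Abel10 (pc pc_comp pc_id)

noncomputable local instance instLawFine (Y : Scheme.{u}) : PicGrp.Law Y := M2.law Y

variable {k : Type u} [Field k] {X : Scheme.{u}} {f : X ⟶ Spec (CommRingCat.of k)} [IsProper f] [Smooth f]
  [GeometricallyConnected f] [IsIntegral X] [GeometricallyIrreducible f] (hdim : topologicalKrullDim X = 1)
  (d : ℤ)

include hdim in
/-- A smooth proper geometrically irreducible group scheme over a field is H-projective. -/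
theorem isHProjective_zeroPart {σ : Spec (CommRingCat.of k) ⟶ X} {hσ : σ ≫ f = 𝟙 _}
    {P : Over (Spec (CommRingCat.of k))} [LocallyOfFiniteType P.hom] {u : PicF.Rig f σ hσ P}
    (hu : ∀ (T : Over (Spec (CommRingCat.of k))) (c : PicF.Rig f σ hσ T),
      ∃! g : T ⟶ P, PicF.pullCl (PicF.XTmap f g) u.1 = c.1) :
    RelProj.IsHProjective (zeroPart u hdim).hom := by
  obtain ⟨h1, h2, h3⟩ := zeroPart_props hu hdim
  haveI := h1
  haveI := h2
  haveI := h3
  haveI : IrreducibleSpace (zeroPart u hdim).left :=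
    GeometricallyIrreducible.irreducibleSpace_of_subsingleton (zeroPart u hdim).hom
  letI := zeroGrpObj hu hdim
  obtain ⟨n, g, hg, hgc⟩ := S10958.result k (zeroPart u hdim)
  haveI := hg
  refine ⟨n, g ≫ (ProjSpace.overSpecIso n k).hom, inferInstance, ?_⟩
  rw [Category.assoc, ProjSpace.overSpecIso_hom_toBase, hgc]

variable (f) in
/-- Families of degree `d` over `J` which are universal for classes of degree `d` up to twists from the base. -/
def IsUnivClass (J : Over (Spec (CommRingCat.of k))) (ξ : PicLoc.PicSet (PicF.XT f J)) : Prop :=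
  (∀ t, PicTan20.degCl f J t ξ.1 = d) ∧
    ∀ (T : Over (Spec (CommRingCat.of k))) (c : PicLoc.PicSet (PicF.XT f T)),
      (∀ t, PicTan20.degCl f T t c.1 = d) →
        ∃! g : T ⟶ J, ∃ m, c = pc (PicF.XTmap f g) ξ * pc (PicF.XTproj f T) m

include hdim in
theorem exists_univClass [IsSepClosed k] (hd : 0 ≤ d) :
    ∃ (J : Over (Spec (CommRingCat.of k))) (ξ : PicLoc.PicSet (PicF.XT f J)),
      RelProj.IsHProjective J.hom ∧ Smooth J.hom ∧ IsUnivClass f d J ξ ∧
        ∀ T : Over (Spec (CommRingCat.of k)), Nonempty (T ⟶ J) := by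
  letI : X.Over (Spec (CommRingCat.of k)) := ⟨f⟩
  haveI : Smooth (X ↘ Spec (CommRingCat.of k)) := ‹Smooth f›
  obtain ⟨σ, hσ, -⟩ := CurveTwist13.exists_section_mem (k := k) (⊤ : X.Opens) ⟨genericPoint X, trivial⟩
  obtain ⟨P, u, hP, hu⟩ := exists_rep f hdim σ hσ (g := _) rfl
  haveI := hP
  obtain ⟨w, hw⟩ := exists_degree_class f hdim σ hσ hd
  refine ⟨zeroPart u hdim, degUniv hdim u w, isHProjective_zeroPart hdim hu, (zeroPart_props hu hdim).2.1,
    ⟨degCl_degUniv hdim hw, fun T c hc => existsUnique_deg hdim hu hw c hc⟩, fun T => ⟨?_⟩⟩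
  exact (ptsEquiv hu hdim T).symm 1

variable {d} {J : Over (Spec (CommRingCat.of k))} {ξ : PicLoc.PicSet (PicF.XT f J)}

theorem famCls_pull {T T' : Over (Spec (CommRingCat.of k))} (g : T' ⟶ T) {L : (PicF.XT f T).Modules}
    (h : (ModFun.PicDeg f d).ok T L) (h' : (ModFun.PicDeg f d).ok T' ((ModFun.PicDeg f d).pull g L)) :
    famCls f d h' = pc (PicF.XTmap f g) (famCls f d h) :=
  Subtype.ext rfl

include hdim in
theorem ok_pull {T T' : Over (Spec (CommRingCat.of k))} (g : T' ⟶ T) {L : (PicF.XT f T).Modules}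
    (h : (ModFun.PicDeg f d).ok T L) : (ModFun.PicDeg f d).ok T' ((ModFun.PicDeg f d).pull g L) := by
  have hL := (M2.isInvertible_iff_isFinLocFreeOfRank_one L).2 h.1.2
  refine ok_of_class f hdim d (PicLoc.isInvertible_pullback _ hL) fun t => ?_
  exact (PicTan20.degCl_pull f g t ⟨L, rfl, hL⟩).trans (degCl_famCls f hdim d h _)

include hdim in
theorem exists_univFamily (hξ : IsUnivClass f d J ξ) :
    ∃ E : (ModFun.PicDeg f d).Fam J, ModFun.IsUnivFamily (fun T => IsAffine T.left) (ModFun.PicDeg f d) J E ∧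
      ∀ (T : Over (Spec (CommRingCat.of k))) (a : T ⟶ J),
        (ModFun.PicDeg f d).ok T ((ModFun.PicDeg f d).pull a E) := by
  obtain ⟨E, hE, rfl⟩ := PicGrp.exists_eq_cls ξ
  have hok : (ModFun.PicDeg f d).ok J E := ok_of_class f hdim d hE hξ.1
  refine ⟨E, ⟨hok, fun T x _ hx => ?_⟩, fun T a => ok_pull hdim a hok⟩
  have hx' := (M2.isInvertible_iff_isFinLocFreeOfRank_one x).2 hx.1.2
  obtain ⟨g, hg, hgu⟩ := hξ.2 T (famCls f d hx) (degCl_famCls f hdim d hx)
  refine ⟨g, (r_iff f d (PicLoc.isInvertible_pullback _ hE) hx').2 ?_, fun g' hg' => hgu g' ?_⟩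
  · exact hg
  · exact (r_iff f d (PicLoc.isInvertible_pullback _ hE) hx').1 hg'

variable (hξ : IsUnivClass f d J ξ)

/-- The classifying morphism of a class of degree `d`. -/
def classify {T : Over (Spec (CommRingCat.of k))} (c : PicLoc.PicSet (PicF.XT f T))
    (hc : ∀ t, PicTan20.degCl f T t c.1 = d) : T ⟶ J :=
  (hξ.2 T c hc).choose

theorem classify_spec {T : Over (Spec (CommRingCat.of k))} (c : PicLoc.PicSet (PicF.XT f T))
    (hc : ∀ t, PicTan20.degCl f T t c.1 = d) :
    ∃ m, c = pc (PicF.XTmap f (classify hξ c hc)) ξ * pc (PicF.XTproj f T) m :=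
  (hξ.2 T c hc).choose_spec.1

theorem eq_classify {T : Over (Spec (CommRingCat.of k))} (c : PicLoc.PicSet (PicF.XT f T))
    (hc : ∀ t, PicTan20.degCl f T t c.1 = d) (g : T ⟶ J) {m : PicLoc.PicSet T.left}
    (h : c = pc (PicF.XTmap f g) ξ * pc (PicF.XTproj f T) m) : g = classify hξ c hc :=
  (hξ.2 T c hc).choose_spec.2 g ⟨m, h⟩

theorem classify_pc {T T' : Over (Spec (CommRingCat.of k))} (g : T' ⟶ T) (c : PicLoc.PicSet (PicF.XT f T))
    (hc : ∀ t, PicTan20.degCl f T t c.1 = d) (hc' : ∀ t, PicTan20.degCl f T' t (pc (PicF.XTmap f g) c).1 = d) :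
    classify hξ (pc (PicF.XTmap f g) c) hc' = g ≫ classify hξ c hc := by
  obtain ⟨m, hm⟩ := classify_spec hξ c hc
  refine (eq_classify hξ _ hc' _ (m := pc g.left m) ?_).symm
  conv_lhs => rw [hm, map_mul, pc_proj_map, pc_comp _ _ (HilbBC25.XTmap_comp f g _).symm]

include hdim in
/-- The morphism from the moduli problem of line bundles of degree `d`. -/
def degHom (hξ : IsUnivClass f d J ξ) :
    (ModFun.PicDeg f d).Hom (fun T => IsAffine T.left) J where
  app T x _ hx := classify hξ (famCls f d hx) (degCl_famCls f hdim d hx)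
  natural {T T'} g x _ _ hx hx' := by
    have h := famCls_pull g hx hx'
    have hd' : ∀ t, PicTan20.degCl f T' t (pc (PicF.XTmap f g) (famCls f d hx)).1 = d := h ▸ degCl_famCls f hdim d hx'
    rw [← classify_pc hξ g _ (degCl_famCls f hdim d hx) hd']
    congr 1
  resp {T} x y _ hx hy hr := by
    obtain ⟨m, hm⟩ := classify_spec hξ _ (degCl_famCls f hdim d hx)
    obtain ⟨m', hm'⟩ := (r_iff f d ((M2.isInvertible_iff_isFinLocFreeOfRank_one x).2 hx.1.2)
      ((M2.isInvertible_iff_isFinLocFreeOfRank_one y).2 hy.1.2)).1 hr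
    refine eq_classify hξ _ _ _ (m := m * m') ?_
    change famCls f d hy = famCls f d hx * pc (PicF.XTproj f T) m' at hm'
    rw [hm', map_mul, ← mul_assoc, ← hm]

include hξ in
theorem geomBij_degHom : ModFun.GeomBij (ModFun.PicDeg f d) J (degHom hdim hξ) := by
  intro Ω _ _ t hP
  constructor
  · intro g
    obtain ⟨L, hL, hL'⟩ := PicGrp.exists_eq_cls (pc (PicF.XTmap f g) ξ)
    have hd : ∀ s, PicTan20.degCl f (Over.mk t) s (PicGrp.cls L hL).1 = d := fun s => by
      rw [← hL']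
      exact (PicTan20.degCl_pull f g s ξ.2).trans (hξ.1 _)
    refine ⟨L, ok_of_class f hdim d hL hd, (eq_classify hξ (famCls f d (ok_of_class f hdim d hL hd))
      (degCl_famCls f hdim d (ok_of_class f hdim d hL hd)) g (m := 1) ?_).symm⟩
    rw [map_one, mul_one]
    exact hL'.symm
  · intro x y hx hy h
    obtain ⟨m, hm⟩ := classify_spec hξ _ (degCl_famCls f hdim d hx)
    obtain ⟨m', hm'⟩ := classify_spec hξ _ (degCl_famCls f hdim d hy)
    refine (r_iff f d ((M2.isInvertible_iff_isFinLocFreeOfRank_one x).2 hx.1.2)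
      ((M2.isInvertible_iff_isFinLocFreeOfRank_one y).2 hy.1.2)).2 ⟨m⁻¹ * m', ?_⟩
    change famCls f d hy = famCls f d hx * _
    change classify hξ (famCls f d hx) (degCl_famCls f hdim d hx) =
      classify hξ (famCls f d hy) (degCl_famCls f hdim d hy) at h
    generalize classify hξ (famCls f d hx) (degCl_famCls f hdim d hx) = a at hm h
    generalize classify hξ (famCls f d hy) (degCl_famCls f hdim d hy) = b at hm' h
    subst h
    rw [hm', hm, map_mul, map_inv]
    simp [mul_assoc]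

include hdim in
/-- A scheme with a universal class is a best approximation on affine test schemes. -/
theorem isBestApprox_degHom (hξ : IsUnivClass f d J ξ) :
    ModFun.IsBestApprox (fun T => IsAffine T.left) (ModFun.PicDeg f d) J (degHom hdim hξ) := by
  intro N ψ
  have hrep : ∀ {T : Over (Spec (CommRingCat.of k))} (g : T ⟶ J), ∃ (L : (PicF.XT f T).Modules)
      (hx : (ModFun.PicDeg f d).ok T L), famCls f d hx = pc (PicF.XTmap f g) ξ := by
    intro T g
    obtain ⟨L, hL, hL'⟩ := PicGrp.exists_eq_cls (pc (PicF.XTmap f g) ξ)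
    have hd : ∀ s, PicTan20.degCl f T s (PicGrp.cls L hL).1 = d := fun s => by
      rw [← hL']
      exact (PicTan20.degCl_pull f g s ξ.2).trans (hξ.1 _)
    exact ⟨L, ok_of_class f hdim d hL hd, hL'.symm⟩
  choose F hF hFc using @hrep
  -- the value of `ψ` on the pullback of the universal class
  let Ψ : ∀ {T : Over (Spec (CommRingCat.of k))}, IsAffine T.left → (T ⟶ J) → (T ⟶ N) :=
    fun hT g => ψ.app _ (F g) hT (hF g)
  have hψ : ∀ (T : Over (Spec (CommRingCat.of k))) (x : (ModFun.PicDeg f d).Fam T) (hT : IsAffine T.left)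
      (hx : (ModFun.PicDeg f d).ok T x) (g : T ⟶ J) (m : PicLoc.PicSet T.left),
      famCls f d hx = pc (PicF.XTmap f g) ξ * pc (PicF.XTproj f T) m → ψ.app T x hT hx = Ψ hT g := by
    intro T x hT hx g m hm
    refine (ψ.resp (F g) x hT (hF g) hx ((r_iff f d ((M2.isInvertible_iff_isFinLocFreeOfRank_one _).2 (hF g).1.2)
      ((M2.isInvertible_iff_isFinLocFreeOfRank_one x).2 hx.1.2)).2 ⟨m, ?_⟩)).symm
    change famCls f d hx = famCls f d (hF g) * _
    rw [hFc, hm]
  have hnat : ∀ {T T' : Over (Spec (CommRingCat.of k))} (h : T' ⟶ T) (hT : IsAffine T.left)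
      (hT' : IsAffine T'.left) (g : T ⟶ J), Ψ hT' (h ≫ g) = h ≫ Ψ hT g := by
    intro T T' h hT hT' g
    have hok := ok_pull hdim h (hF g)
    rw [← ψ.natural h (F g) hT hT' (hF g) hok]
    refine (hψ T' _ hT' hok (h ≫ g) 1 ?_).symm
    rw [famCls_pull h (hF g) hok, hFc, map_one, mul_one, pc_comp _ _ (HilbBC25.XTmap_comp f h g).symm]
  let 𝒰 := J.left.affineCover
  let U : 𝒰.I₀ → Over (Spec (CommRingCat.of k)) := fun i => Over.mk (𝒰.f i ≫ J.hom)
  let ι : ∀ i, U i ⟶ J := fun i => Over.homMk (𝒰.f i) rfl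
  have hU : ∀ i, IsAffine (U i).left := fun i => inferInstanceAs (IsAffine (𝒰.X i))
  let φ : ∀ i, 𝒰.X i ⟶ N.left := fun i => (Ψ (hU i) (ι i)).left
  have hcompat : ∀ i j, pullback.fst (𝒰.f i) (𝒰.f j) ≫ φ i = pullback.snd (𝒰.f i) (𝒰.f j) ≫ φ j := by
    intro i j
    let 𝒱 := (pullback (𝒰.f i) (𝒰.f j)).affineCover
    refine 𝒱.hom_ext _ _ fun l => ?_
    let a : Over.mk ((𝒱.f l ≫ pullback.fst (𝒰.f i) (𝒰.f j)) ≫ (U i).hom) ⟶ U i := Over.homMk (𝒱.f l ≫ pullback.fst (𝒰.f i) (𝒰.f j)) rfl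
    let b : Over.mk ((𝒱.f l ≫ pullback.fst (𝒰.f i) (𝒰.f j)) ≫ (U i).hom) ⟶ U j :=
      Over.homMk (𝒱.f l ≫ pullback.snd (𝒰.f i) (𝒰.f j)) (by
        show (𝒱.f l ≫ pullback.snd (𝒰.f i) (𝒰.f j)) ≫ 𝒰.f j ≫ J.hom =
          (𝒱.f l ≫ pullback.fst (𝒰.f i) (𝒰.f j)) ≫ 𝒰.f i ≫ J.hom
        simp only [Category.assoc, pullback.condition_assoc])
    have hA : IsAffine (Over.mk ((𝒱.f l ≫ pullback.fst (𝒰.f i) (𝒰.f j)) ≫ (U i).hom)).left :=
      inferInstanceAs (IsAffine (𝒱.X l))
    have hab : a ≫ ι i = b ≫ ι j := by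
      ext1
      show (𝒱.f l ≫ pullback.fst (𝒰.f i) (𝒰.f j)) ≫ 𝒰.f i = (𝒱.f l ≫ pullback.snd (𝒰.f i) (𝒰.f j)) ≫ 𝒰.f j
      rw [Category.assoc, Category.assoc, pullback.condition]
    have h1 := hnat a (hU i) hA (ι i)
    have h2 := hnat b (hU j) hA (ι j)
    rw [hab, h2] at h1
    exact ((Category.assoc _ _ _).symm.trans (congrArg CommaMorphism.left h1).symm).trans (Category.assoc _ _ _)
  let F₀ := 𝒰.glueMorphisms φ hcompat
  have hF₀ : ∀ i, 𝒰.f i ≫ F₀ = φ i := fun i => 𝒰.ι_glueMorphisms φ hcompat i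
  let Fhom : J ⟶ N := Over.homMk F₀ (by
    refine 𝒰.hom_ext _ _ fun i => ?_
    rw [← Category.assoc, hF₀]
    exact Over.w (Ψ (hU i) (ι i)))
  have hΨ : ∀ {T : Over (Spec (CommRingCat.of k))} (hT : IsAffine T.left) (g : T ⟶ J), Ψ hT g = g ≫ Fhom := by
    intro T hT g
    ext1
    refine Scheme.Cover.hom_ext (𝒰.pullback₁ g.left) _ _ fun i => ?_
    refine (Scheme.affineCover ((𝒰.pullback₁ g.left).X i)).hom_ext _ _ fun l => ?_
    let v : (Scheme.affineCover ((𝒰.pullback₁ g.left).X i)).X l ⟶ (𝒰.pullback₁ g.left).X i :=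
      (Scheme.affineCover _).f l
    let a : Over.mk ((v ≫ pullback.snd g.left (𝒰.f i)) ≫ (U i).hom) ⟶ U i :=
      Over.homMk (v ≫ pullback.snd g.left (𝒰.f i)) rfl
    let b : Over.mk ((v ≫ pullback.snd g.left (𝒰.f i)) ≫ (U i).hom) ⟶ T :=
      Over.homMk (v ≫ pullback.fst g.left (𝒰.f i)) (by
        show (v ≫ pullback.fst g.left (𝒰.f i)) ≫ T.hom = (v ≫ pullback.snd g.left (𝒰.f i)) ≫ 𝒰.f i ≫ J.hom
        simp only [Category.assoc, ← pullback.condition_assoc, Over.w g])
    have hA : IsAffine (Over.mk ((v ≫ pullback.snd g.left (𝒰.f i)) ≫ (U i).hom)).left :=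
      inferInstanceAs (IsAffine ((Scheme.affineCover ((𝒰.pullback₁ g.left).X i)).X l))
    have hab : b ≫ g = a ≫ ι i := by
      ext1
      show (v ≫ pullback.fst g.left (𝒰.f i)) ≫ g.left = (v ≫ pullback.snd g.left (𝒰.f i)) ≫ 𝒰.f i
      rw [Category.assoc, Category.assoc, pullback.condition]
    have h1 := hnat b hT hA g
    rw [hab, hnat a (hU i) hA (ι i)] at h1
    show v ≫ pullback.fst g.left (𝒰.f i) ≫ (Ψ hT g).left = v ≫ pullback.fst g.left (𝒰.f i) ≫ g.left ≫ F₀
    rw [← Category.assoc, ← Category.assoc v (pullback.fst g.left (𝒰.f i))]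
    refine (congrArg CommaMorphism.left h1).symm.trans ?_
    show (v ≫ pullback.snd g.left (𝒰.f i)) ≫ φ i = _
    simp only [← hF₀, Category.assoc, pullback.condition_assoc]
  refine ⟨Fhom, fun T x hT hx => ?_, fun F' hF' => ?_⟩
  · obtain ⟨m, hm⟩ := classify_spec hξ _ (degCl_famCls f hdim d hx)
    exact (hψ T x hT hx _ m hm).trans (hΨ hT _)
  · ext1
    refine 𝒰.hom_ext _ _ fun i => ?_
    have h := hF' (U i) (F (ι i)) (hU i) (hF (ι i))
    have hι : ι i = (degHom hdim hξ).app (U i) (F (ι i)) (hU i) (hF (ι i)) :=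
      eq_classify hξ (famCls f d (hF (ι i))) (degCl_famCls f hdim d (hF (ι i))) (ι i) (m := 1)
        (by rw [hFc, map_one, mul_one])
    rw [← hι] at h
    exact (congrArg CommaMorphism.left h).symm.trans ((congrArg CommaMorphism.left (hΨ (hU i) (ι i))))

end Groth.Agent.PicRep20
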