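import Groth.Agent.Lib.PicRep20.BC
import Groth.Agent.Lib.SchDesc12.FiniteOrbit
import Groth.Agent.Lib.SchDesc12.Effective
import Groth.Agent.Lib.FpqcDesc.Basic
import Groth.Agent.Lib.GrpLocus20.MaxOpen
import Mathlib.AlgebraicGeometry.Sites.Fpqc
import Groth.Prelude.Def_FGA

/-!
# Descent of the degree zero Picard scheme along a finite extension of fields
-/

set_option autoImplicit false
set_option linter.style.haveILetI false
set_option linter.unusedSectionVars false
set_option maxHeartbeats 2000000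
set_option backward.isDefEq.respectTransparency false
set_option backward.isDefEq.respectTransparency.types false

universe u

open CategoryTheory CategoryTheory.Limits AlgebraicGeometry TopologicalSpace

noncomputable section

namespace Groth.Agent.PicRep20

open Groth.Agent.Abel10 (pc pc_comp pc_id)

noncomputable local instance instLawGalDesc (Y : Scheme.{u}) : PicGrp.Law Y := M2.law Y

variable {k : Type u} [Field k] {X : Scheme.{u}} {f : X ⟶ Spec (CommRingCat.of k)} [IsProper f] [Smooth f]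
  [GeometricallyConnected f] [IsIntegral X] [GeometricallyIrreducible f] (hdim : topologicalKrullDim X = 1)
  {σ : Spec (CommRingCat.of k) ⟶ X} {hσ : σ ≫ f = 𝟙 _}

section At

variable {S' : Scheme.{u}} {p : S' ⟶ Spec (CommRingCat.of k)} {J : Over S'}

/-- The class at a point. -/
def clsAt (ξ : PicLoc.PicSet (PicF.XT f (bcT p J))) {W : Scheme.{u}} (h : W ⟶ Spec (CommRingCat.of k))
    (v : W ⟶ J.left) (hv : v ≫ J.hom ≫ p = h) : PicLoc.PicSet (PicF.XT f (Over.mk h)) :=
  pc (PicF.XTmap f (Over.homMk v hv : Over.mk h ⟶ bcT p J)) ξ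

theorem clsAt_congr (ξ : PicLoc.PicSet (PicF.XT f (bcT p J))) {W : Scheme.{u}} {h : W ⟶ Spec (CommRingCat.of k)}
    {v v' : W ⟶ J.left} (e : v = v') (hv : v ≫ J.hom ≫ p = h) (hv' : v' ≫ J.hom ≫ p = h) :
    clsAt ξ h v hv = clsAt ξ h v' hv' := by
  subst e
  rfl

theorem clsAt_comp (ξ : PicLoc.PicSet (PicF.XT f (bcT p J))) {W W' : Scheme.{u}}
    {h : W ⟶ Spec (CommRingCat.of k)} {h' : W' ⟶ Spec (CommRingCat.of k)} (g : W' ⟶ W) (hg : g ≫ h = h')
    (v : W ⟶ J.left) (hv : v ≫ J.hom ≫ p = h) (hv' : (g ≫ v) ≫ J.hom ≫ p = h') :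
    pc (PicF.XTmap f (Over.homMk g hg : Over.mk h' ⟶ Over.mk h)) (clsAt ξ h v hv) = clsAt ξ h' (g ≫ v) hv' := by
  rw [clsAt, pc_comp _ _ (HilbBC25.XTmap_comp f _ _).symm]
  rfl

/-- The universal property of the degree zero part of the Picard functor over an extension. -/
def IsUnivZero (σ : Spec (CommRingCat.of k) ⟶ X) (hσ : σ ≫ f = 𝟙 _) (ξ : PicLoc.PicSet (PicF.XT f (bcT p J))) :
    Prop :=
  ξ ∈ zeroSub (σ := σ) (hσ := hσ) hdim (bcT p J) ∧
    ∀ (W : Scheme.{u}) (h : W ⟶ Spec (CommRingCat.of k)) (y : W ⟶ S') (_ : y ≫ p = h)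
      (c : PicLoc.PicSet (PicF.XT f (Over.mk h))), c ∈ zeroSub (σ := σ) (hσ := hσ) hdim (Over.mk h) →
      ∃! v : W ⟶ J.left, v ≫ J.hom = y ∧ ∃ hv : v ≫ J.hom ≫ p = h, clsAt ξ h v hv = c

theorem clsAt_mem {ξ : PicLoc.PicSet (PicF.XT f (bcT p J))} (hξ : IsUnivZero hdim σ hσ ξ) {W : Scheme.{u}}
    (h : W ⟶ Spec (CommRingCat.of k)) (v : W ⟶ J.left) (hv : v ≫ J.hom ≫ p = h) :
    clsAt ξ h v hv ∈ zeroSub (σ := σ) (hσ := hσ) hdim (Over.mk h) :=
  ⟨by rw [clsAt, pc_secT_map, hξ.1.1, map_one],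
    fun t => (PicTan20.degCl_pull f _ t ξ.2).trans (hξ.1.2 _)⟩

end At

section Field

variable {F : Type u} [Field F] {p : Spec (CommRingCat.of F) ⟶ Spec (CommRingCat.of k)}
  [IsProper (pullback.snd f p)] [Smooth (pullback.snd f p)] [GeometricallyConnected (pullback.snd f p)]
  [IsIntegral (pullback f p)] [GeometricallyIrreducible (pullback.snd f p)]
  (hdF : topologicalKrullDim ↥(pullback f p) = 1)

variable (σ hσ) in
include hdF in
/-- The degree zero part over the extension has the universal property over the ground field. -/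
theorem isUnivZero_of_rep {P : Over (Spec (CommRingCat.of F))}
    {u : PicF.Rig (pullback.snd f p) (bcSec f p σ hσ) (bcSec_snd f p σ hσ) P}
    (hu : ∀ (T : Over (Spec (CommRingCat.of F)))
      (c : PicF.Rig (pullback.snd f p) (bcSec f p σ hσ) (bcSec_snd f p σ hσ) T),
      ∃! g : T ⟶ P, PicF.pullCl (PicF.XTmap (pullback.snd f p) g) u.1 = c.1) :
    ∃ ξ : PicLoc.PicSet (PicF.XT f (bcT p (zeroPart u hdF))), IsUnivZero hdim σ hσ ξ := by
  let f' := pullback.snd f p
  let σ' := bcSec f p σ hσ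
  have hσ' : σ' ≫ f' = 𝟙 _ := bcSec_snd f p σ hσ
  let J := zeroPart u hdF
  let ξK : PicLoc.PicSet (PicF.XT f' J) := (ptsEquiv hu hdF J (𝟙 J)).1
  let ξ := pc (bcXT f p J).inv ξK
  have hback : pc (bcXT f p J).hom ξ = ξK := by
    rw [pc_comp _ _ (bcXT f p J).hom_inv_id, pc_id]
  have hinj : ∀ (T : Over (Spec (CommRingCat.of F))), Function.Injective (pc (bcXT f p T).hom) := fun T a b h => by
    have h' := congrArg (pc (bcXT f p T).inv) h
    rwa [pc_comp _ _ (bcXT f p T).inv_hom_id, pc_comp _ _ (bcXT f p T).inv_hom_id, pc_id, pc_id] at h'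
  -- membership in the degree zero part is preserved
  have hmem : ∀ (T : Over (Spec (CommRingCat.of F))) (c : PicLoc.PicSet (PicF.XT f (bcT p T))),
      c ∈ zeroSub (σ := σ) (hσ := hσ) hdim (bcT p T) ↔
        pc (bcXT f p T).hom c ∈ zeroSub (σ := σ') (hσ := hσ') hdF T := by
    intro T c
    have h1 : pc (PicF.secT f' σ' hσ' T) (pc (bcXT f p T).hom c) = pc (PicF.secT f σ hσ (bcT p T)) c :=
      pc_comp _ _ (secT_bcXT f p σ hσ T) c
    have h2 : ∀ t : T.left, PicTan20.degCl f' T t (pc (bcXT f p T).hom c).1 = PicTan20.degCl f (bcT p T) t c.1 :=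
      fun t => (fibre_inv f f' (isPullback_bcXT f p T) t c.2).1
    exact ⟨fun h => ⟨h1.trans h.1, fun t => (h2 t).trans (h.2 t)⟩,
      fun h => ⟨h1.symm.trans h.1, fun t => (h2 t).symm.trans (h.2 t)⟩⟩
  have hpull : ∀ (T : Over (Spec (CommRingCat.of F))) (a : T ⟶ J),
      pc (bcXT f p T).hom (pc (PicF.XTmap f (bcMap p a)) ξ) = (ptsEquiv hu hdF T a).1 := by
    intro T a
    rw [pc_comp _ _ (bcXT_natural f p a).symm, ← pc_comp (PicF.XTmap f' a) (bcXT f p J).hom rfl, hback,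
      ← ptsEquiv_comp, Category.comp_id]
  refine ⟨ξ, (hmem J ξ).2 (hback ▸ (ptsEquiv hu hdF J (𝟙 J)).2), fun W h y hy c hc => ?_⟩
  subst hy
  let T := Over.mk y
  have hc' := (hmem T c).1 hc
  let a := (ptsEquiv hu hdF T).symm ⟨_, hc'⟩
  have ha : a.left ≫ J.hom = y := Over.w a
  refine ⟨a.left, ⟨ha, by rw [← Category.assoc, ha], ?_⟩, ?_⟩
  · apply hinj T
    refine (hpull T a).trans ?_
    rw [Equiv.apply_symm_apply]
  · rintro v ⟨hv, hv', hcv⟩
    let b : T ⟶ J := Over.homMk v hv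
    show b.left = a.left
    have hb : b = a := by
      rw [Equiv.eq_symm_apply]
      apply Subtype.ext
      rw [← hpull T b]
      exact congrArg _ hcv
    rw [hb]

end Field

section Descent

variable {F : Type u} [Field F] [Algebra k F] [FiniteDimensional k F]

variable (k F) in
/-- The extension of the ground field as a morphism. -/
abbrev spF : Spec (CommRingCat.of F) ⟶ Spec (CommRingCat.of k) := Spec.map (CommRingCat.ofHom (algebraMap k F))

variable {J : Over (Spec (CommRingCat.of F))} {ξ : PicLoc.PicSet (PicF.XT f (bcT (spF k F) J))}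
  (hξ : IsUnivZero hdim σ hσ ξ)

/-- The transport of a point to another point of the extension. -/
def move {W : Scheme.{u}} (x₀ x₁ : W ⟶ Spec (CommRingCat.of F)) (h : x₀ ≫ (spF k F) = x₁ ≫ (spF k F))
    (v : Desc.Lifts J x₀) : Desc.Lifts J x₁ :=
  ⟨(hξ.2 W (x₀ ≫ (spF k F)) x₁ h.symm (clsAt ξ (x₀ ≫ (spF k F)) v.1 (by rw [← Category.assoc, v.2]))
      (clsAt_mem hdim hξ _ _ _)).choose,
    (hξ.2 W (x₀ ≫ (spF k F)) x₁ h.symm (clsAt ξ (x₀ ≫ (spF k F)) v.1 (by rw [← Category.assoc, v.2]))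
      (clsAt_mem hdim hξ _ _ _)).choose_spec.1.1⟩

theorem move_hom {W : Scheme.{u}} (x₀ x₁ : W ⟶ Spec (CommRingCat.of F)) (h : x₀ ≫ (spF k F) = x₁ ≫ (spF k F))
    (v : Desc.Lifts J x₀) : (move hdim hξ x₀ x₁ h v).1 ≫ J.hom = x₁ := (move hdim hξ x₀ x₁ h v).2

theorem move_spec {W : Scheme.{u}} (x₀ x₁ : W ⟶ Spec (CommRingCat.of F)) (h : x₀ ≫ (spF k F) = x₁ ≫ (spF k F))
    (v : Desc.Lifts J x₀) (hw : (move hdim hξ x₀ x₁ h v).1 ≫ J.hom ≫ (spF k F) = x₀ ≫ (spF k F))
    (hv : v.1 ≫ J.hom ≫ (spF k F) = x₀ ≫ (spF k F)) :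
    clsAt ξ (x₀ ≫ (spF k F)) (move hdim hξ x₀ x₁ h v).1 hw = clsAt ξ (x₀ ≫ (spF k F)) v.1 hv :=
  (hξ.2 W (x₀ ≫ (spF k F)) x₁ h.symm (clsAt ξ (x₀ ≫ (spF k F)) v.1 (by rw [← Category.assoc, v.2]))
    (clsAt_mem hdim hξ _ _ _)).choose_spec.1.2.2

include hdim hξ in
theorem lift_unique {W : Scheme.{u}} {h : W ⟶ Spec (CommRingCat.of k)} {v v' : W ⟶ J.left}
    (e : v ≫ J.hom = v' ≫ J.hom) (hv : v ≫ J.hom ≫ (spF k F) = h) (hv' : v' ≫ J.hom ≫ (spF k F) = h)
    (hc : clsAt ξ h v hv = clsAt ξ h v' hv') : v = v' :=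
  (hξ.2 W h (v' ≫ J.hom) (by rw [Category.assoc]; exact hv') (clsAt ξ h v' hv') (clsAt_mem hdim hξ h v' hv')).unique
    ⟨e, hv, hc⟩ ⟨rfl, hv', rfl⟩

/-- The descent datum. -/
def datum : Desc.SchDDFam (fun _ : PUnit.{u + 1} => (spF k F)) where
  obj _ := J
  φ W _ _ x₀ x₁ h :=
    { toFun := move hdim hξ x₀ x₁ h
      invFun := move hdim hξ x₁ x₀ h.symm
      left_inv := fun v => by
        have e1 : (move hdim hξ x₁ x₀ h.symm (move hdim hξ x₀ x₁ h v)).1 ≫ J.hom ≫ (spF k F) = x₁ ≫ (spF k F) := by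
          rw [← Category.assoc, move_hom, h]
        have e2 : (move hdim hξ x₀ x₁ h v).1 ≫ J.hom ≫ (spF k F) = x₁ ≫ (spF k F) := by rw [← Category.assoc, move_hom]
        refine Subtype.ext (lift_unique hdim hξ ((move_hom hdim hξ _ _ _ _).trans v.2.symm) e1
          (by rw [← Category.assoc, v.2, h]) ((move_spec hdim hξ x₁ x₀ h.symm _ e1 e2).trans ?_))
        have key : ∀ (h' : W ⟶ Spec (CommRingCat.of k)), h' = x₀ ≫ (spF k F) →
            ∀ (a : (move hdim hξ x₀ x₁ h v).1 ≫ J.hom ≫ (spF k F) = h') (b : v.1 ≫ J.hom ≫ (spF k F) = h'),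
              clsAt ξ h' (move hdim hξ x₀ x₁ h v).1 a = clsAt ξ h' v.1 b := by
          rintro _ rfl a b
          exact move_spec hdim hξ x₀ x₁ h v a b
        exact key _ h.symm e2 _
      right_inv := fun v => by
        have e1 : (move hdim hξ x₀ x₁ h (move hdim hξ x₁ x₀ h.symm v)).1 ≫ J.hom ≫ (spF k F) = x₀ ≫ (spF k F) := by
          rw [← Category.assoc, move_hom, h]
        have e2 : (move hdim hξ x₁ x₀ h.symm v).1 ≫ J.hom ≫ (spF k F) = x₀ ≫ (spF k F) := by rw [← Category.assoc, move_hom]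
        refine Subtype.ext (lift_unique hdim hξ ((move_hom hdim hξ _ _ _ _).trans v.2.symm) e1
          (by rw [← Category.assoc, v.2, h]) ((move_spec hdim hξ x₀ x₁ h _ e1 e2).trans ?_))
        have key : ∀ (h' : W ⟶ Spec (CommRingCat.of k)), h' = x₁ ≫ (spF k F) →
            ∀ (a : (move hdim hξ x₁ x₀ h.symm v).1 ≫ J.hom ≫ (spF k F) = h') (b : v.1 ≫ J.hom ≫ (spF k F) = h'),
              clsAt ξ h' (move hdim hξ x₁ x₀ h.symm v).1 a = clsAt ξ h' v.1 b := by
          rintro _ rfl a b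
          exact move_spec hdim hξ x₁ x₀ h.symm v a b
        exact key _ h e2 _ }
  φ_natural W W' g _ _ x₀ x₁ h y₀ y₁ hy₀ hy₁ h' v v' hv' := by
    subst hy₀ hy₁
    show (move hdim hξ (g ≫ x₀) (g ≫ x₁) h' v').1 = g ≫ (move hdim hξ x₀ x₁ h v).1
    have e0 : v.1 ≫ J.hom ≫ (spF k F) = x₀ ≫ (spF k F) := by rw [← Category.assoc, v.2]
    have e1 : (move hdim hξ x₀ x₁ h v).1 ≫ J.hom ≫ (spF k F) = x₀ ≫ (spF k F) := by rw [← Category.assoc, move_hom, h]
    have e2 : (move hdim hξ (g ≫ x₀) (g ≫ x₁) h' v').1 ≫ J.hom ≫ (spF k F) = (g ≫ x₀) ≫ (spF k F) := by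
      rw [← Category.assoc, move_hom, h']
    have e3 : (g ≫ (move hdim hξ x₀ x₁ h v).1) ≫ J.hom ≫ (spF k F) = (g ≫ x₀) ≫ (spF k F) := by
      rw [Category.assoc, e1, Category.assoc]
    have e4 : (g ≫ v.1) ≫ J.hom ≫ (spF k F) = (g ≫ x₀) ≫ (spF k F) := by rw [Category.assoc, e0, Category.assoc]
    refine lift_unique hdim hξ ((move_hom hdim hξ _ _ _ _).trans ?_) e2 e3 ?_
    · rw [Category.assoc]
      exact (congrArg (g ≫ ·) (move hdim hξ x₀ x₁ h v).2).symm
    · rw [move_spec hdim hξ (g ≫ x₀) (g ≫ x₁) h' v' e2 (by rw [hv']; exact e4),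
        clsAt_congr ξ hv' _ e4, ← clsAt_comp ξ g (Category.assoc _ _ _).symm _ e0 e4,
        ← move_spec hdim hξ x₀ x₁ h v e1 e0, clsAt_comp ξ g (Category.assoc _ _ _).symm _ e1 e3]
  φ_self W _ x v := by
    have e1 : (move hdim hξ x x rfl v).1 ≫ J.hom ≫ (spF k F) = x ≫ (spF k F) := by rw [← Category.assoc, move_hom]
    have e2 : v.1 ≫ J.hom ≫ (spF k F) = x ≫ (spF k F) := by rw [← Category.assoc, v.2]
    exact Subtype.ext (lift_unique hdim hξ ((move_hom hdim hξ x x rfl v).trans v.2.symm) e1 e2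
      (move_spec hdim hξ x x rfl v e1 e2))
  φ_comp W _ _ _ x₀ x₁ x₂ h₀₁ h₁₂ v := by
    let v₁ := move hdim hξ x₀ x₁ h₀₁ v
    let v₂ := move hdim hξ x₁ x₂ h₁₂ v₁
    let v₃ := move hdim hξ x₀ x₂ (h₀₁.trans h₁₂) v
    show v₂ = v₃
    have a₂ : v₂.1 ≫ J.hom ≫ (spF k F) = x₁ ≫ (spF k F) := by rw [← Category.assoc, v₂.2, h₁₂]
    have a₃ : v₃.1 ≫ J.hom ≫ (spF k F) = x₁ ≫ (spF k F) := by rw [← Category.assoc, v₃.2, h₁₂]
    have a₁ : v₁.1 ≫ J.hom ≫ (spF k F) = x₁ ≫ (spF k F) := by rw [← Category.assoc, v₁.2]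
    refine Subtype.ext (lift_unique hdim hξ (v₂.2.trans v₃.2.symm) a₂ a₃ ((move_spec hdim hξ x₁ x₂ h₁₂ v₁ a₂ a₁).trans ?_))
    have key : ∀ (h' : W ⟶ Spec (CommRingCat.of k)), h' = x₀ ≫ (spF k F) →
        ∀ (a : v₁.1 ≫ J.hom ≫ (spF k F) = h') (b : v₃.1 ≫ J.hom ≫ (spF k F) = h'),
          clsAt ξ h' v₁.1 a = clsAt ξ h' v₃.1 b := by
      rintro _ rfl a b
      have hv : v.1 ≫ J.hom ≫ (spF k F) = x₀ ≫ (spF k F) := by rw [← Category.assoc, v.2]
      exact (move_spec hdim hξ x₀ x₁ h₀₁ v a hv).trans (move_spec hdim hξ x₀ x₂ (h₀₁.trans h₁₂) v b hv).symm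
    exact key _ h₀₁.symm a₁ a₃

include hdim hξ in
/-- The universal property descends when finite sets of points lie in affine opens. -/
theorem exists_descended (haff : ∀ E : Set J.left, E.Finite → ∃ U : J.left.Opens, IsAffineOpen U ∧ E ⊆ U)
    (h1 : IsProper J.hom) (h2 : Smooth J.hom) (h3 : GeometricallyIrreducible J.hom) :
    ∃ (U : Over (Spec (CommRingCat.of k))) (c₀ : PicF.Rig f σ hσ U),
      IsProper U.hom ∧ Smooth U.hom ∧ GeometricallyIrreducible U.hom ∧
      (∀ t, PicTan20.degCl f U t c₀.1 = 0) ∧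
      ∀ (T : Over (Spec (CommRingCat.of k))) (c : PicF.Rig f σ hσ T), (∀ t, PicTan20.degCl f T t c.1 = 0) →
        ∃! g : T ⟶ U, PicF.pullCl (PicF.XTmap f g) c₀.1 = c.1 := by
  haveI : IsFinite (spF k F) := (IsFinite.SpecMap_iff _).2 (RingHom.finite_algebraMap.2 inferInstance)
  haveI : Flat (spF k F) := (HasRingHomProperty.Spec_iff (P := @Flat)).2 (RingHom.flat_algebraMap_iff.2 inferInstance)
  haveI : Surjective (spF k F) := ⟨fun x => ⟨IsLocalRing.closedPoint F, Subsingleton.elim (α := PrimeSpectrum k) _ _⟩⟩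
  haveI : LocallyOfFinitePresentation (spF k F) := inferInstance
  obtain ⟨U, ⟨e⟩⟩ := SchDesc12.isEffective_of_orbit_affine (datum hdim hξ) fun v => by
    obtain ⟨O, hO, hvO⟩ := haff _ (SchDesc12.finite_orbit (datum hdim hξ) v)
    exact ⟨O, hO, fun v' hv' => hvO hv'⟩
  -- the comparison isomorphism
  let q : pullback (spF k F) U.hom ⟶ U.left := pullback.snd _ _
  let α : pullback (spF k F) U.hom ⟶ J.left := (e.hom.hom ⟨⟩).left
  let β : J.left ⟶ pullback (spF k F) U.hom := (e.inv.hom ⟨⟩).left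
  have hαβ : α ≫ β = 𝟙 _ := congrArg (fun g => (g.hom ⟨⟩).left) e.hom_inv_id
  have hβα : β ≫ α = 𝟙 _ := congrArg (fun g => (g.hom ⟨⟩).left) e.inv_hom_id
  have hα : α ≫ J.hom = pullback.fst (spF k F) U.hom := Over.w (e.hom.hom ⟨⟩)
  haveI : IsIso α := ⟨β, hαβ, hβα⟩
  -- the canonical transport corresponds to `move`
  have hcomm : ∀ {W : Scheme.{u}} (a b : W ⟶ pullback (spF k F) U.hom), a ≫ q = b ≫ q →
      ∀ (h : (a ≫ pullback.fst _ _) ≫ (spF k F) = (b ≫ pullback.fst _ _) ≫ (spF k F)),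
        (move hdim hξ (a ≫ pullback.fst _ _) (b ≫ pullback.fst _ _) h
          ⟨a ≫ α, by rw [Category.assoc, hα]⟩).1 = b ≫ α := by
    intro W a b hab h
    refine (e.hom.comm (i := ⟨⟩) (j := ⟨⟩) (a ≫ pullback.fst _ _) (b ≫ pullback.fst _ _) h ⟨a, rfl⟩
      ⟨a ≫ α, by rw [Category.assoc]; exact congrArg (a ≫ ·) hα⟩ rfl).trans ?_
    refine congrArg (· ≫ α) ?_
    exact pullback.hom_ext (pullback.lift_fst _ _ _) ((pullback.lift_snd _ _ _).trans hab)
  -- the descended class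
  let hW : pullback (spF k F) U.hom ⟶ Spec (CommRingCat.of k) := q ≫ U.hom
  have hαW : α ≫ J.hom ≫ (spF k F) = hW := by rw [← Category.assoc, hα]; exact pullback.condition
  let d := clsAt ξ hW α hαW
  have hd := clsAt_mem hdim hξ hW α hαW
  have hq : Presieve.ofArrows (fun _ : PUnit.{u + 1} => pullback (spF k F) U.hom) (fun _ => q) ∈
      Scheme.fppfPrecoverage U.left := by
    haveI : Surjective q := MorphismProperty.pullback_snd _ _ inferInstance
    haveI : Flat q := MorphismProperty.pullback_snd _ _ inferInstance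
    haveI : LocallyOfFinitePresentation q := MorphismProperty.pullback_snd _ _ inferInstance
    exact PicDesc21.mem_fppf_iff.2 ⟨fun x => ⟨⟨⟩, q.surjective x⟩, fun _ => ⟨inferInstance, inferInstance⟩⟩
  obtain ⟨c₀, hc₀i, hc₀t, hc₀⟩ := RigDesc22.exists_descended_cl f σ hσ (bijective_appTop_proj f) hq
    (fun _ => d.1) (fun _ => d.2) (fun _ => (congrArg Subtype.val hd.1).trans PicGrp.one_val) fun _ _ V a b hab => by
      have ha : a.left ≫ hW = V.hom := Over.w a
      have hb : b.left ≫ hW = V.hom := Over.w b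
      let x₀ := a.left ≫ pullback.fst (spF k F) U.hom
      let x₁ := b.left ≫ pullback.fst (spF k F) U.hom
      have h : x₀ ≫ (spF k F) = x₁ ≫ (spF k F) := by
        simp only [x₀, x₁, Category.assoc, pullback.condition]
        exact ha.trans hb.symm
      have hx : x₀ ≫ (spF k F) = V.hom := by
        simp only [x₀, Category.assoc, pullback.condition]
        exact ha
      have key : ∀ (h' : V.left ⟶ Spec (CommRingCat.of k)), h' = x₀ ≫ (spF k F) →
          ∀ (e1 : (a.left ≫ α) ≫ J.hom ≫ (spF k F) = h') (e2 : (b.left ≫ α) ≫ J.hom ≫ (spF k F) = h'),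
            clsAt ξ h' (a.left ≫ α) e1 = clsAt ξ h' (b.left ≫ α) e2 := by
        rintro _ rfl e1 e2
        have hm := hcomm a.left b.left hab h
        have e3 := by
          exact (show (move hdim hξ x₀ x₁ h ⟨a.left ≫ α, by rw [Category.assoc, hα]⟩).1 ≫ J.hom ≫ (spF k F) = x₀ ≫ (spF k F) by
            rw [hm]; exact e2)
        exact (move_spec hdim hξ x₀ x₁ h ⟨a.left ≫ α, by rw [Category.assoc, hα]⟩ e3 e1).symm.trans
          (clsAt_congr ξ hm e3 e2)
      have e1 : (a.left ≫ α) ≫ J.hom ≫ (spF k F) = V.hom := by rw [Category.assoc, hαW, ha]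
      have e2 : (b.left ≫ α) ≫ J.hom ≫ (spF k F) = V.hom := by rw [Category.assoc, hαW, hb]
      have k1 := clsAt_comp ξ a.left ha α hαW e1
      have k2 := clsAt_comp ξ b.left hb α hαW e2
      exact congrArg Subtype.val (k1.trans ((key _ hx.symm e1 e2).trans k2.symm))
  let C₀ : PicLoc.PicSet (PicF.XT f U) := ⟨c₀, hc₀i⟩
  have hC₀ : pc (PicF.XTmap f (AbDual.ovrHom U q)) C₀ = d := Subtype.ext (hc₀ ⟨⟩)
  have hdeg : ∀ t, PicTan20.degCl f U t c₀ = 0 := by
    intro t
    haveI : Surjective q := MorphismProperty.pullback_snd _ _ inferInstance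
    obtain ⟨z, rfl⟩ := q.surjective t
    have h := PicTan20.degCl_pull f (AbDual.ovrHom U q) z hc₀i
    rw [hc₀ ⟨⟩] at h
    exact h.symm.trans (hd.2 z)
  -- properties
  have sq : IsPullback q (pullback.fst (spF k F) U.hom) U.hom (spF k F) := (IsPullback.of_hasPullback _ _).flip
  haveI : IsProper (pullback.fst (spF k F) U.hom) := hα ▸ (MorphismProperty.cancel_left_of_respectsIso @IsProper α J.hom).2 h1
  haveI : Smooth (pullback.fst (spF k F) U.hom) := hα ▸ (MorphismProperty.cancel_left_of_respectsIso @Smooth α J.hom).2 h2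
  haveI : GeometricallyIrreducible (pullback.fst (spF k F) U.hom) :=
    hα ▸ (MorphismProperty.cancel_left_of_respectsIso @GeometricallyIrreducible α J.hom).2 h3
  refine ⟨U, ⟨c₀, hc₀i, hc₀t⟩, ?_, ?_, ?_, hdeg, fun T c hc => ?_⟩
  · haveI := FpqcDesc.descendsAlong_isProper.{u}
    exact MorphismProperty.of_isPullback_of_descendsAlong (P := @IsProper)
      (Q := @Surjective ⊓ @Flat ⊓ @QuasiCompact) sq.flip ⟨⟨inferInstance, inferInstance⟩, inferInstance⟩ inferInstance
  · haveI : Surjective q := MorphismProperty.pullback_snd _ _ inferInstance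
    refine GrpLocus20.descendsAlong_smooth sq ⟨inferInstance, inferInstance⟩ ⊤ ?_ ⟨fun x => ?_⟩
    · infer_instance
    · obtain ⟨z, hz⟩ := q.surjective x
      exact ⟨⟨z, trivial⟩, hz⟩
  · refine ⟨geometrically_iff_of_commRing_of_isClosedUnderIsomorphisms.mpr fun L _ _ => ?_⟩
    let b := Spec.map (CommRingCat.ofHom (algebraMap k L))
    let l : F →ₐ[k] AlgebraicClosure L := IsAlgClosed.lift
    let cM : Spec (CommRingCat.of (AlgebraicClosure L)) ⟶ Spec (CommRingCat.of L) :=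
      Spec.map (CommRingCat.ofHom (algebraMap L (AlgebraicClosure L)))
    let dM : Spec (CommRingCat.of (AlgebraicClosure L)) ⟶ Spec (CommRingCat.of F) :=
      Spec.map (CommRingCat.ofHom l.toRingHom)
    have hM : cM ≫ b = dM ≫ (spF k F) := by
      rw [← Spec.map_comp, ← Spec.map_comp]
      exact congrArg Spec.map (CommRingCat.hom_ext (RingHom.ext fun z => (l.commutes z).symm))
    let Z := pullback (pullback.fst (spF k F) U.hom) dM
    haveI : IrreducibleSpace Z :=
      GeometricallyIrreducible.geometrically_irreducibleSpace (f := pullback.fst (spF k F) U.hom) _ _ _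
        (IsPullback.of_hasPullback _ dM)
    let ψ : Z ⟶ pullback U.hom b :=
      pullback.lift (pullback.fst _ dM ≫ q) (pullback.snd _ dM ≫ cM) (by
        rw [Category.assoc, sq.w, pullback.condition_assoc, Category.assoc, hM])
    haveI : Surjective cM :=
      ⟨fun x => ⟨IsLocalRing.closedPoint _, Subsingleton.elim (α := PrimeSpectrum L) _ _⟩⟩
    have sqψ : IsPullback ψ (pullback.snd _ dM) (pullback.snd U.hom b) cM := by
      refine IsPullback.of_right ?_ (pullback.lift_snd _ _ _) (IsPullback.of_hasPullback U.hom b)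
      rw [pullback.lift_fst, hM]
      exact (IsPullback.of_hasPullback _ dM).paste_horiz sq
    haveI : Surjective ψ := MorphismProperty.of_isPullback sqψ.flip ‹_›
    haveI : Nonempty (pullback U.hom b : Scheme.{u}) := (IrreducibleSpace.toNonempty (X := (Z : Scheme.{u}))).map ψ
    exact { toPreirreducibleSpace := ⟨by
              have h := (PreirreducibleSpace.isPreirreducible_univ (X := Z)).image ψ ψ.continuous.continuousOn
              rwa [Set.image_univ, ψ.surjective.range_eq] at h⟩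
            toNonempty := inferInstance }
  · -- universality
    let TF := pullback (spF k F) T.hom
    let qT : TF ⟶ T.left := pullback.snd _ _
    haveI : Flat qT := MorphismProperty.pullback_snd _ _ inferInstance
    haveI : Surjective qT := MorphismProperty.pullback_snd _ _ inferInstance
    haveI : QuasiCompact qT := MorphismProperty.pullback_snd _ _ inferInstance
    haveI : LocallyOfFinitePresentation qT := MorphismProperty.pullback_snd _ _ inferInstance
    let hT : TF ⟶ Spec (CommRingCat.of k) := qT ≫ T.hom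
    let cT : PicLoc.PicSet (PicF.XT f (Over.mk hT)) :=
      pc (PicF.XTmap f (Over.homMk qT rfl : Over.mk hT ⟶ T)) (toPic c)
    have hcT : cT ∈ zeroSub (σ := σ) (hσ := hσ) hdim (Over.mk hT) :=
      ⟨by rw [pc_secT_map, toPic_rig, map_one], fun t => (PicTan20.degCl_pull f _ t c.2.1).trans (hc _)⟩
    obtain ⟨v, ⟨hv1, hv2, hvc⟩, hvu⟩ := hξ.2 TF hT (pullback.fst _ _) pullback.condition cT hcT
    -- two lifts of one point have the same image
    have hwd : ∀ {R : Scheme.{u}} (g₁ g₂ : R ⟶ TF), g₁ ≫ qT = g₂ ≫ qT →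
        g₁ ≫ v ≫ β ≫ q = g₂ ≫ v ≫ β ≫ q := by
      intro R g₁ g₂ hg
      let x₀ := g₁ ≫ pullback.fst (spF k F) T.hom
      let x₁ := g₂ ≫ pullback.fst (spF k F) T.hom
      have h : x₀ ≫ (spF k F) = x₁ ≫ (spF k F) := by
        simp only [x₀, x₁, Category.assoc, pullback.condition]
        exact (congrArg (· ≫ T.hom) hg : (g₁ ≫ qT) ≫ T.hom = (g₂ ≫ qT) ≫ T.hom) |> fun e => by
          simpa only [Category.assoc] using e
      have hhom : g₁ ≫ hT = x₀ ≫ (spF k F) := by
        simp only [x₀, Category.assoc, pullback.condition]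
        rfl
      have hhom2 : g₂ ≫ hT = x₀ ≫ (spF k F) := by
        rw [h]
        simp only [x₁, Category.assoc, pullback.condition]
        rfl
      have a1 : (g₁ ≫ v) ≫ J.hom ≫ (spF k F) = x₀ ≫ (spF k F) := by rw [Category.assoc, hv2, hhom]
      have a2 : (g₂ ≫ v) ≫ J.hom ≫ (spF k F) = x₀ ≫ (spF k F) := by rw [Category.assoc, hv2, hhom2]
      let l₁ : Desc.Lifts J x₀ := ⟨g₁ ≫ v, by rw [Category.assoc, hv1]⟩
      have a3 : (move hdim hξ x₀ x₁ h l₁).1 ≫ J.hom ≫ (spF k F) = x₀ ≫ (spF k F) := by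
        rw [← Category.assoc, move_hom, h]
      have hmv : (move hdim hξ x₀ x₁ h l₁).1 = g₂ ≫ v := by
        refine lift_unique hdim hξ ((move_hom hdim hξ _ _ _ _).trans ?_) a3 a2 ?_
        · rw [Category.assoc, hv1]
        · rw [move_spec hdim hξ x₀ x₁ h l₁ a3 a1, ← clsAt_comp ξ g₁ hhom v hv2 a1, hvc,
            ← clsAt_comp ξ g₂ hhom2 v hv2 a2, hvc]
          refine (pc_comp _ _ (HilbBC25.XTmap_comp f _ _).symm _).trans
            (Eq.trans ?_ (pc_comp _ _ (HilbBC25.XTmap_comp f _ _).symm _).symm)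
          congr 3
          ext1
          exact hg
      -- read the transport on the descended scheme
      let a := g₁ ≫ v ≫ β
      have haα : a ≫ α = g₁ ≫ v := by simp only [a, Category.assoc, hβα, Category.comp_id]
      have h0 : a ≫ pullback.fst _ _ = x₀ := by rw [← hα, ← Category.assoc, haα, Category.assoc, hv1]
      let b' : R ⟶ pullback (spF k F) U.hom := pullback.lift x₁ (a ≫ q) (by
        rw [← h, ← h0, Category.assoc, Category.assoc]
        exact congrArg (a ≫ ·) pullback.condition)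
      have hb'0 : b' ≫ pullback.fst _ _ = x₁ := pullback.lift_fst _ _ _
      have hm : (move hdim hξ x₀ x₁ h l₁).1 = b' ≫ α := by
        have gen : ∀ (y₀ y₁ : R ⟶ Spec (CommRingCat.of F)) (e₀ : a ≫ pullback.fst _ _ = y₀)
            (e₁ : b' ≫ pullback.fst _ _ = y₁) (hy : y₀ ≫ (spF k F) = y₁ ≫ (spF k F)) (l : Desc.Lifts J y₀), l.1 = a ≫ α →
              (move hdim hξ y₀ y₁ hy l).1 = b' ≫ α := by
          rintro _ _ rfl rfl hy ⟨l, hl⟩ rfl
          exact hcomm a b' (pullback.lift_snd _ _ _).symm hy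
        exact gen x₀ x₁ h0 hb'0 h l₁ haα.symm
      rw [hmv] at hm
      calc g₁ ≫ v ≫ β ≫ q = a ≫ q := by simp only [a, Category.assoc]
        _ = b' ≫ q := (pullback.lift_snd _ _ _).symm
        _ = ((b' ≫ α) ≫ β) ≫ q := by rw [Category.assoc b', hαβ, Category.comp_id]
        _ = g₂ ≫ v ≫ β ≫ q := by rw [← hm]; simp only [Category.assoc]
    haveI : EffectiveEpi qT := inferInstance
    let g₀ : T.left ⟶ U.left := EffectiveEpi.desc qT (v ≫ β ≫ q) fun g₁ g₂ hg => hwd g₁ g₂ hg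
    have hg₀ : qT ≫ g₀ = v ≫ β ≫ q := EffectiveEpi.fac qT _ _
    have hβfst : β ≫ pullback.fst (spF k F) U.hom = J.hom := by rw [← hα, reassoc_of% hβα]
    have hvb : (v ≫ β) ≫ pullback.fst (spF k F) U.hom = pullback.fst _ _ := by rw [Category.assoc, hβfst, hv1]
    let G : T ⟶ U := Over.homMk g₀ (by
      rw [← cancel_epi qT, ← Category.assoc, hg₀, Category.assoc, Category.assoc, sq.w]
      rw [reassoc_of% hβfst, hv2])
    have hGc : ∀ (G' : T ⟶ U) (w : TF ⟶ pullback (spF k F) U.hom), w ≫ q = qT ≫ G'.left →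
        ∀ (e : (w ≫ α) ≫ J.hom ≫ (spF k F) = hT),
          pc (PicF.XTmap f (Over.homMk qT rfl : Over.mk hT ⟶ T)) (pc (PicF.XTmap f G') C₀) =
            clsAt ξ hT (w ≫ α) e := by
      intro G' w hw e
      have hwW : w ≫ hW = hT := by
        show w ≫ q ≫ U.hom = qT ≫ T.hom
        rw [← Category.assoc, hw, Category.assoc, Over.w G']
      rw [← clsAt_comp ξ w hwW α hαW e]
      refine (pc_comp _ _ (HilbBC25.XTmap_comp f _ _).symm _).trans ?_
      refine Eq.trans ?_ (congrArg _ hC₀)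
      refine Eq.trans ?_ (pc_comp _ _ (HilbBC25.XTmap_comp f _ _).symm _).symm
      congr 3
      ext1
      exact hw.symm
    refine ⟨G, ?_, ?_⟩
    · refine PicDesc21.cl_eq_of_local f (bijective_appTop_proj f) σ hσ (PicDesc21.isInvertibleCl_pull _ hc₀i)
        c.2.1 ((RigDesc22.trivial_pull f σ hσ G hc₀t).trans c.2.2.symm)
        (R := Presieve.ofArrows (fun _ : PUnit.{u + 1} => TF) (fun _ => qT)) ?_ ?_
      · exact PicDesc21.mem_fppf_iff.2 ⟨fun x => ⟨⟨⟩, qT.surjective x⟩, fun _ => ⟨inferInstance, inferInstance⟩⟩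
      · rintro _ _ ⟨⟩
        have e : ((v ≫ β) ≫ α) ≫ J.hom ≫ (spF k F) = hT := by
          rw [Category.assoc v, hβα, Category.comp_id, hv2]
        have h := hGc G (v ≫ β) (by rw [Category.assoc]; exact hg₀.symm) e
        rw [clsAt_congr ξ (show (v ≫ β) ≫ α = v by rw [Category.assoc, hβα, Category.comp_id]) e hv2, hvc] at h
        exact congrArg Subtype.val h
    · intro G' hG'
      ext1
      refine (cancel_epi qT).1 ?_
      let w : TF ⟶ pullback (spF k F) U.hom := pullback.lift (pullback.fst _ _) (qT ≫ G'.left) (by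
        rw [Category.assoc, Over.w G']; exact pullback.condition)
      have hw1 : w ≫ pullback.fst _ _ = pullback.fst (spF k F) T.hom := pullback.lift_fst _ _ _
      have hw2 : w ≫ q = qT ≫ G'.left := pullback.lift_snd _ _ _
      have e : (w ≫ α) ≫ J.hom ≫ (spF k F) = hT := by
        rw [Category.assoc, hαW]
        show w ≫ q ≫ U.hom = qT ≫ T.hom
        rw [← Category.assoc, hw2, Category.assoc, Over.w G']
      have hv' : w ≫ α = v := hvu _ ⟨by rw [Category.assoc, hα, hw1], e, by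
        rw [← hGc G' w hw2 e, show pc (PicF.XTmap f G') C₀ = toPic c from Subtype.ext hG']⟩
      show qT ≫ G'.left = qT ≫ g₀
      rw [hg₀, ← hv', Category.assoc, reassoc_of% hαβ, hw2]

end Descent

end Groth.Agent.PicRep20
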