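import Groth.Agent.Lib.PicRep20.FinField
import Groth.Agent.Lib.PicRep20.GalDesc
import Groth.Agent.Lib.PicRep20.Fine
import Groth.Agent.Lib.FinAffine12.Proj
import Mathlib.FieldTheory.IsAlgClosed.AlgebraicClosure

/-!
# The Jacobian of a pointed curve over an arbitrary field
-/

set_option autoImplicit false
set_option linter.style.haveILetI false
set_option linter.unusedSectionVars false
set_option maxHeartbeats 2000000
set_option synthInstance.maxHeartbeats 200000
set_option backward.isDefEq.respectTransparency false
set_option backward.isDefEq.respectTransparency.types false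

universe u

open CategoryTheory CategoryTheory.Limits AlgebraicGeometry TopologicalSpace

noncomputable section

namespace Groth.Agent.PicRep20

open Groth.Agent.Abel10 (pc pc_comp pc_id)

noncomputable local instance instLawJacobian (Y : Scheme.{u}) : PicGrp.Law Y := M2.law Y

/-- Finite sets of points of a projective scheme over a field lie in affine opens. -/
theorem exists_affine_of_isHProjective {k : Type u} [Field k] {Y : Scheme.{u}}
    {h : Y ⟶ Spec (CommRingCat.of k)} (hh : RelProj.IsHProjective h) (E : Set Y) (hE : E.Finite) :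
    ∃ U : Y.Opens, IsAffineOpen U ∧ E ⊆ U := by
  obtain ⟨n, i, hi, -⟩ := hh
  haveI := hi
  exact FinAffine12.exists_affineOpen_of_finite_proj (CohB1.polyGrading n k)
    (i ≫ (ProjSpace.overSpecIso n k).inv) E hE

variable {k : Type u} [Field k] {X : Scheme.{u}} (f : X ⟶ Spec (CommRingCat.of k)) [IsProper f] [Smooth f]
  [GeometricallyConnected f] [IsIntegral X] [GeometricallyIrreducible f] (hdim : topologicalKrullDim X = 1)
  (σ : Spec (CommRingCat.of k) ⟶ X) (hσ : σ ≫ f = 𝟙 _)

include hdim in
/-- The degree zero rigidified Picard functor of a pointed curve over any field is represented by a proper,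
smooth, geometrically irreducible scheme. -/
theorem exists_jacobian : ∃ (U : Over (Spec (CommRingCat.of k))) (c₀ : PicF.Rig f σ hσ U),
      IsProper U.hom ∧ Smooth U.hom ∧ GeometricallyIrreducible U.hom ∧
      (∀ t, PicTan20.degCl f U t c₀.1 = 0) ∧
      ∀ (T : Over (Spec (CommRingCat.of k))) (c : PicF.Rig f σ hσ T), (∀ t, PicTan20.degCl f T t c.1 = 0) →
        ∃! g : T ⟶ U, PicF.pullCl (PicF.XTmap f g) c₀.1 = c.1 := by
  obtain ⟨F, hF, hcover⟩ := exists_finite_cover f hdim σ hσ (AlgebraicClosure k)
  haveI := hF
  let p : Spec (CommRingCat.of F) ⟶ Spec (CommRingCat.of k) := Spec.map (CommRingCat.ofHom (algebraMap k F))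
  letI : (pullback f p).Over (Spec (CommRingCat.of F)) := ⟨pullback.snd f p⟩
  have sq : IsPullback (pullback.fst f p) (pullback f p ↘ Spec (CommRingCat.of F)) f p :=
    IsPullback.of_hasPullback f p
  haveI : IsProper (pullback.snd f p) := Abel10.isProper_fieldPt sq
  haveI : Smooth (pullback.snd f p) := Abel10.smooth_fieldPt sq
  haveI : GeometricallyConnected (pullback.snd f p) := Abel10.geometricallyConnected_fieldPt sq
  haveI : GeometricallyIrreducible (pullback.snd f p) := MorphismProperty.pullback_snd _ _ inferInstance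
  haveI : IsIntegral (pullback f p) := Abel10.isIntegral_fieldPt sq
  have hdF : topologicalKrullDim ↥(pullback f p) = 1 := Abel10.topologicalKrullDim_fieldPt sq (fiber_dim f hdim)
  obtain ⟨P, u, hP, hu⟩ := exists_rep_of_cover (pullback.snd f p) hdF (bcSec f p σ hσ) (bcSec_snd f p σ hσ)
    (g := _) (fun T c t => hcover hdF T c t) rfl
  haveI := hP
  obtain ⟨h1, h2, h3⟩ := zeroPart_props hu hdF
  obtain ⟨ξ, hξ⟩ := isUnivZero_of_rep hdim σ hσ hdF hu
  exact exists_descended hdim hξ (exists_affine_of_isHProjective (isHProjective_zeroPart hdF hu)) h1 h2 h3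

omit [Smooth f] [GeometricallyConnected f] [IsIntegral X] [GeometricallyIrreducible f] in
/-- Degree zero on the fibres in terms of classes. -/
theorem hasFibreDegreeZeroCl_iff {T : Over (Spec (CommRingCat.of k))} (c : PicF.Cl (PicF.XT f T)) :
    FGA.HasFibreDegreeZeroCl f T c ↔ ∀ t, PicTan20.degCl f T t c = 0 := by
  constructor
  · rintro ⟨L, rfl, hL⟩ t
    rw [PicTan20.degCl_cl]
    exact sub_eq_zero.2 (hL t)
  · intro h
    exact ⟨Quot.out c, Quot.out_eq c, fun t => sub_eq_zero.1 (h t)⟩

end Groth.Agent.PicRep20
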