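import Groth.Agent.Lib.PicRep20.Base
import Groth.Agent.Lib.Abel10.Main
import Groth.Agent.Lib.Abel10.FieldPt
import Groth.Agent.Lib.PicTan20.PicZeroDeg

/-!
# The fibres of a constant family of curves
-/

set_option autoImplicit false
set_option linter.style.haveILetI false
set_option linter.unusedSectionVars false
set_option maxHeartbeats 1000000
set_option backward.isDefEq.respectTransparency false
set_option backward.isDefEq.respectTransparency.types false

universe u

open CategoryTheory CategoryTheory.Limits AlgebraicGeometry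

noncomputable section

namespace Groth.Agent.PicRep20

variable {k : Type u} [Field k] {X : Scheme.{u}} (f : X ⟶ Spec (CommRingCat.of k))

theorem fiber_dim (hdim : topologicalKrullDim X = 1) (s : Spec (CommRingCat.of k)) :
    topologicalKrullDim ↥(f.fiber s) = 1 := by
  haveI : Subsingleton (Spec (CommRingCat.of k)) := inferInstanceAs (Subsingleton (PrimeSpectrum k))
  have h : (f ⁻¹' {s} : Set X) = Set.univ := Set.eq_univ_of_forall fun x => Subsingleton.elim (f x) s
  rw [(f.fiberHomeo s).isHomeomorph.topologicalKrullDim_eq, ← hdim]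
  exact ((Homeomorph.setCongr h).trans (Homeomorph.Set.univ X)).isHomeomorph.topologicalKrullDim_eq

variable [IsProper f] [Smooth f] [GeometricallyConnected f]

/-- The projection of a base change of a curve is smooth of relative dimension one. -/
theorem smoothOfRelativeDimension_proj (hdim : topologicalKrullDim X = 1) (T : Over (Spec (CommRingCat.of k))) :
    SmoothOfRelativeDimension 1 (PicF.XTproj f T) :=
  PicTan20.smoothOfRelativeDimension_one (PicF.XTproj f T)
    fun t => Abel10.topologicalKrullDim_fiber_snd f T.hom (fiber_dim f hdim) t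

theorem genus_fibre (T : Over (Spec (CommRingCat.of k))) (t : T.left) :
    letI : ((PicF.XTproj f T).fiber t).Over (Spec (CommRingCat.of (T.left.residueField t))) :=
      ⟨(PicF.XTproj f T).fiberToSpecResidueField t⟩
    letI : X.Over (Spec (CommRingCat.of k)) := ⟨f⟩
    Curv2.genus (T.left.residueField t) ((PicF.XTproj f T).fiber t) = Curv2.genus k X := by
  letI : ((PicF.XTproj f T).fiber t).Over (Spec (CommRingCat.of (T.left.residueField t))) :=
    ⟨(PicF.XTproj f T).fiberToSpecResidueField t⟩
  letI : X.Over (Spec (CommRingCat.of k)) := ⟨f⟩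
  have h : IsPullback (𝟙 X) (X ↘ Spec (CommRingCat.of k)) f (𝟙 _) :=
    IsPullback.of_horiz_isIso ⟨by rw [Category.id_comp, Category.comp_id]; rfl⟩
  rw [Abel10.genus_fieldPt h]
  refine (Abel10.genus_fiber_snd f T.hom t).trans ?_
  haveI : Subsingleton (Spec (CommRingCat.of k)) := inferInstanceAs (Subsingleton (PrimeSpectrum k))
  exact congrArg _ (Subsingleton.elim _ _)

/-- The degree of a class as the degree on the fibre. -/
theorem deg_fibre (hdim : topologicalKrullDim X = 1) (T : Over (Spec (CommRingCat.of k))) (t : T.left)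
    {L : (PicF.XT f T).Modules} (hL : PicF.IsInvertible L) :
    letI : ((PicF.XTproj f T).fiber t).Over (Spec (CommRingCat.of (T.left.residueField t))) :=
      ⟨(PicF.XTproj f T).fiberToSpecResidueField t⟩
    Curv2.deg (T.left.residueField t) ((PicF.XTproj f T).fiber t)
      ((Scheme.Modules.pullback ((PicF.XTproj f T).fiberι t)).obj L) 1 = PicTan20.degCl f T t (PicF.cl L) := by
  let p := PicF.XTproj f T
  letI : (p.fiber t).Over (Spec (CommRingCat.of (T.left.residueField t))) := ⟨p.fiberToSpecResidueField t⟩
  haveI : IsProper (p.fiber t ↘ Spec (CommRingCat.of (T.left.residueField t))) :=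
    MorphismProperty.pullback_snd (P := @IsProper) _ _ (inferInstanceAs (IsProper (pullback.snd f T.hom)))
  have hd : topologicalKrullDim ↥(p.fiber t) ≤ ((1 : ℕ) : WithBot ℕ∞) :=
    (Abel10.topologicalKrullDim_fiber_snd f T.hom (fiber_dim f hdim) t).le
  rw [PicTan20.degCl_cl, Curv2.deg, Nat.cast_one, one_mul]
  exact congrArg₂ (fun a b : ℤ => a - b)
    (Snapper.eulerCharLE_eq_euler (k := T.left.residueField t) (X := p.fiber t) 1 hd
      (Snapper.isCoh_of_isInvertible (PicLoc.isInvertible_pullback _ hL))).symm
    (Snapper.eulerCharLE_eq_euler (k := T.left.residueField t) (X := p.fiber t) 1 hd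
      (M1.isCoh_structureModule _)).symm

/-- No first cohomology on a fibre. -/
theorem h1_fibre (T : Over (Spec (CommRingCat.of k))) (t : T.left)
    {L : (PicF.XT f T).Modules} (hL : PicF.IsInvertible L) :
    letI : ((PicF.XTproj f T).fiber t).Over (Spec (CommRingCat.of (T.left.residueField t))) :=
      ⟨(PicF.XTproj f T).fiberToSpecResidueField t⟩
    (Subsingleton (Coh.HH ((PicF.XTproj f T).fiber t)
      ((Scheme.Modules.pullback ((PicF.XTproj f T).fiberι t)).obj L) 1) ↔ h1Cl f T t (PicF.cl L) = 0) := by
  let p := PicF.XTproj f T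
  letI : (p.fiber t).Over (Spec (CommRingCat.of (T.left.residueField t))) := ⟨p.fiberToSpecResidueField t⟩
  haveI : IsProper (p.fiber t ↘ Spec (CommRingCat.of (T.left.residueField t))) :=
    MorphismProperty.pullback_snd (P := @IsProper) _ _ (inferInstanceAs (IsProper (pullback.snd f T.hom)))
  haveI : Module.Finite (T.left.residueField t)
      (Coh.HH (p.fiber t) ((Scheme.Modules.pullback (p.fiberι t)).obj L) 1) :=
    CohFound.finite_HH_of_isProper _ (Snapper.isCoh_of_isInvertible (PicLoc.isInvertible_pullback _ hL)) 1
  rw [h1Cl_cl]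
  exact Module.finrank_zero_iff.symm

end Groth.Agent.PicRep20
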