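import Groth.Agent.Lib.PicRep20.Divisor
import Groth.Agent.Lib.Abel10.DegOneNhd
import Groth.Agent.Lib.Abel10.ZeroDiv
import Groth.Agent.Lib.PicTan20.PicZeroDeg
import Groth.Agent.S8848

/-!
# Zero loci of sections on families of curves
-/

set_option autoImplicit false
set_option linter.style.haveILetI false
set_option linter.unusedSectionVars false
set_option maxHeartbeats 1000000
set_option backward.isDefEq.respectTransparency false
set_option backward.isDefEq.respectTransparency.types false

universe u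

open CategoryTheory CategoryTheory.Limits AlgebraicGeometry TopologicalSpace

noncomputable section

namespace Groth.Agent.PicRep20

open Groth.Agent.Abel10 Groth.Agent.ModLimH13

variable {X T : Scheme.{u}} (p : X ⟶ T) [IsProper p] [Smooth p] [GeometricallyConnected p]

/-- A section which is nonzero on all fibres cuts out a finite flat family of divisors. -/
theorem exists_obj (hdim : ∀ t : T, topologicalKrullDim ↥(p.fiber t) = 1) {L : X.Modules} (hL : PicF.IsInvertible L)
    (σ : Γ(L, (⊤ : X.Opens))) (hσ : ∀ t : T, res' (p.fiberι t) L (W := ⊤) (W' := ⊤) le_top σ ≠ 0) {d : ℕ}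
    (hdeg : ∀ t : T, letI : (p.fiber t).Over (Spec (CommRingCat.of (T.residueField t))) := ⟨p.fiberToSpecResidueField t⟩
      Curv2.deg (T.residueField t) (p.fiber t) ((Scheme.Modules.pullback (p.fiberι t)).obj L) 1 = d) :
    ∃ J : X.IdealSheafData, LocEq L J σ ∧ Mor2.IsFinLocFreeOfDeg d (J.subschemeι ≫ p) := by
  obtain ⟨J, hs⟩ := exists_locEq_ideal hL σ
  let c : ∀ t : T, (J.comap (p.fiberι t)).subscheme ⟶ Spec (T.residueField t) := fun t =>
    (J.comap (p.fiberι t)).subschemeι ≫ p.fiberToSpecResidueField t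
  let π := J.subschemeι ≫ p
  have hsq : ∀ t : T, ∃ w, IsPullback w (c t) π (T.fromSpecResidueField t) := fun t => by
    have sq : IsPullback (p.fiberι t) (p.fiberToSpecResidueField t) p (T.fromSpecResidueField t) :=
      IsPullback.of_hasPullback _ _
    refine ⟨(J.comapIso (p.fiberι t)).hom ≫ pullback.snd _ _, IsPullback.paste_vert ?_ sq⟩
    exact (IsPullback.of_hasPullback (p.fiberι t) J.subschemeι).flip.of_iso (J.comapIso (p.fiberι t)).symm
      (Iso.refl _) (Iso.refl _) (Iso.refl _)
      (by rw [Iso.symm_hom, Iso.refl_hom, Category.comp_id, Iso.inv_hom_id_assoc]) (by simp) (by simp) (by simp)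
  have hfib : ∀ t : T, BlowUp.IsEffCartierIdeal (J.comap (p.fiberι t)) ∧ LocallyQuasiFinite (c t) := fun t => by
    letI : (p.fiber t).Over (Spec (CommRingCat.of (T.residueField t))) := ⟨p.fiberToSpecResidueField t⟩
    have sq : IsPullback (p.fiberι t) (p.fiber t ↘ Spec (CommRingCat.of (T.residueField t))) p
        (T.fromSpecResidueField t) := IsPullback.of_hasPullback _ _
    haveI := isProper_fieldPt sq
    haveI := smooth_fieldPt sq
    haveI := isIntegral_fieldPt sq
    haveI := (CurveAmple18.curveLike (T.residueField t) (p.fiber t) (hdim t).le).noetherian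
    have hE := (hs.comap (p.fiberι t)).isEffCartierIdeal (hdim t).le (PicLoc.isInvertible_pullback _ hL) (hσ t)
    haveI := CurveCartier25.smoothOfRelativeDimension_one (p.fiber t ↘ Spec (CommRingCat.of (T.residueField t))) (hdim t)
    exact ⟨hE, ((S1184.result (p.fiber t ↘ Spec (CommRingCat.of (T.residueField t))) _).1.1
      ⟨hE, inferInstance⟩).1⟩
  obtain ⟨hJ, hfl⟩ := S8848.result p J hs.isLocPrincipal fun t => (hfib t).1
  haveI := locallyOfFinitePresentation_of_isLocPrincipal hs.isLocPrincipal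
  haveI : Flat π := hfl
  haveI : LocallyOfFinitePresentation π := inferInstanceAs (LocallyOfFinitePresentation (_ ≫ _))
  haveI : IsProper π := inferInstanceAs (IsProper (_ ≫ _))
  haveI : LocallyQuasiFinite π := LocallyQuasiFinite.of_finite_preimage_singleton π fun t => by
    haveI := (hfib t).2
    obtain ⟨w, hw⟩ := hsq t
    haveI : QuasiCompact (c t) := MorphismProperty.of_isPullback (P := @QuasiCompact) hw inferInstance
    haveI : Subsingleton (Spec (T.residueField t)) := inferInstanceAs (Subsingleton (PrimeSpectrum (T.residueField t)))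
    haveI : Finite (J.comap (p.fiberι t)).subscheme := Set.finite_univ_iff.1 (by
      refine ((c t).finite_preimage_singleton (IsLocalRing.closedPoint _)).subset fun a _ => ?_
      exact Subsingleton.elim (c t a) _)
    refine (Set.finite_range w).subset fun a ha => ?_
    obtain ⟨y, hy, -⟩ := Scheme.Pullback.exists_preimage_pullback (f := π) (g := T.fromSpecResidueField t) a
      (IsLocalRing.closedPoint _) (by rw [T.fromSpecResidueField_apply]; exact ha)
    exact ⟨hw.isoPullback.inv y, by rw [← Scheme.Hom.comp_apply, hw.isoPullback_inv_fst, hy]⟩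
  haveI : IsFinite π := IsFinite.of_isProper_of_locallyQuasiFinite π
  refine ⟨J, hs, ⟨inferInstance, inferInstance, inferInstance⟩, fun t => ?_⟩
  obtain ⟨w, hw⟩ := hsq t
  letI : (p.fiber t).Over (Spec (CommRingCat.of (T.residueField t))) := ⟨p.fiberToSpecResidueField t⟩
  have sq : IsPullback (p.fiberι t) (p.fiber t ↘ Spec (CommRingCat.of (T.residueField t))) p
      (T.fromSpecResidueField t) := IsPullback.of_hasPullback _ _
  haveI := isProper_fieldPt sq
  haveI := smooth_fieldPt sq
  haveI := isIntegral_fieldPt sq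
  haveI : IsFinite (c t) := MorphismProperty.of_isPullback (P := @IsFinite) hw inferInstance
  haveI : Flat (c t) := MorphismProperty.of_isPullback (P := @Flat) hw inferInstance
  haveI : LocallyOfFinitePresentation (c t) :=
    MorphismProperty.of_isPullback (P := @LocallyOfFinitePresentation) hw inferInstance
  haveI : Subsingleton (Spec (T.residueField t)) := inferInstanceAs (Subsingleton (PrimeSpectrum (T.residueField t)))
  have hc : Mor2.IsFinLocFreeOfDeg (c t |>.finrank (IsLocalRing.closedPoint _)) (c t) :=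
    ⟨⟨inferInstance, inferInstance, inferInstance⟩, fun y => congrArg _ (Subsingleton.elim _ _)⟩
  have h1 := deg_eq_of_locEq (K := T.residueField t) (hdim t) (PicLoc.isInvertible_pullback _ hL)
    (hs.comap (p.fiberι t)) hc
  rw [hdeg t, Nat.cast_inj] at h1
  have h2 := Scheme.Hom.finrank_of_isPullback _ _ _ _ hw (IsLocalRing.closedPoint _)
  rw [T.fromSpecResidueField_apply] at h2
  exact h2.symm.trans h1.symm

/-- A section near a fibre which is nonzero on it is nonzero on the nearby fibres. -/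
theorem exists_nhd_nonzero [Flat p] [LocallyOfFinitePresentation p] {L : X.Modules} (hL : PicF.IsInvertible L) (t : T)
    [IsIntegral (p.fiber t)] (h1 : Subsingleton (CohIII.fiberH p L t 1))
    (h0 : Nontrivial Γ((Scheme.Modules.pullback (p.fiberι t)).obj L, ⊤)) :
    ∃ (U : T.Opens), t ∈ U ∧ ∀ {X' : Scheme.{u}} (m : X' ⟶ X) (p' : X' ⟶ U.toScheme), IsPullback m p' p U.ι →
      ∃ σ : Γ((Scheme.Modules.pullback m).obj L, (⊤ : X'.Opens)), ∀ y,
        res' (p'.fiberι y) ((Scheme.Modules.pullback m).obj L) (W := ⊤) (W' := ⊤) le_top σ ≠ 0 := by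
  obtain ⟨D, hsD, σ, hσ⟩ := exists_section_nhd p hL t h1 h0
  have hLs := PicLoc.isInvertible_pullback (p.fiberι t) hL
  have hη : Amp.Gen (Amp.gm _ (genericPoint (p.fiber t)) (U := ⊤) trivial (res' (p.fiberι t) L hsD σ)) :=
    CurveCoh17.span_germ_genericPoint hLs hσ
  rw [gen_res'_iff (p.fiberι t) hL σ hsD] at hη
  let z₀ := p.fiberι t (genericPoint (p.fiber t))
  have hz₀ : z₀ ∈ p ⁻¹ᵁ D := hsD trivial
  obtain ⟨W, g, hzW, hWD, -, hg⟩ := Amp.exists_isGenerator hL hz₀
  obtain ⟨a, ha⟩ := (hg W le_rfl).2 (M1.mres L hWD σ)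
  simp only [M2.res_self] at ha
  have hgW : ∀ z (hz : z ∈ W), Amp.gm L z (hWD hz) σ = X.presheaf.germ W z hz a • Amp.gm L z hz g := fun z hz => by
    rw [← Amp.gm_smul, ha]
    exact (Amp.gm_res hWD hz σ).symm
  let G : X.Opens := X.basicOpen a
  have hGW : G ≤ W := X.basicOpen_le a
  have hGgen : ∀ z (hz : z ∈ G), Amp.Gen (Amp.gm L z (hWD (hGW hz)) σ) := fun z hz => by
    rw [hgW z (hGW hz)]
    exact (Amp.Gen.ne_zero_smul (g := Amp.gm L z (hGW hz) g) (Amp.gen_of_isGenerator hg (hGW hz)) _).2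
      ((Scheme.mem_basicOpen X a z (hGW hz)).1 hz)
  have hz₀G : z₀ ∈ G := by
    refine (Scheme.mem_basicOpen X a z₀ hzW).2 ?_
    have h2 : Amp.Gen (Amp.gm L z₀ (hWD hzW) σ) := hη
    rw [hgW z₀ hzW] at h2
    exact (Amp.Gen.ne_zero_smul (g := Amp.gm L z₀ hzW g) (Amp.gen_of_isGenerator hg hzW) _).1 h2
  let U : T.Opens := D ⊓ ⟨p '' (G : Set X), p.isOpenMap _ G.2⟩
  have hpz₀ : p z₀ = t := by
    have hmem : p.fiberι t (genericPoint (p.fiber t)) ∈ Set.range (p.fiberι t) := ⟨_, rfl⟩
    rwa [p.range_fiberι] at hmem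
  refine ⟨U, ⟨hpz₀ ▸ hz₀, z₀, hz₀G, hpz₀⟩, fun {X'} m p' h => ?_⟩
  have hm : (⊤ : X'.Opens) ≤ m ⁻¹ᵁ (p ⁻¹ᵁ D) := fun z _ => by
    show p (m z) ∈ D
    rw [← Scheme.Hom.comp_apply, h.w, Scheme.Hom.comp_apply]
    exact (p' z).2.1
  refine ⟨res' m L hm σ, fun y => ?_⟩
  obtain ⟨w, hwG, hwt⟩ := y.2.2
  obtain ⟨z, hzw, hzt⟩ := Scheme.Pullback.exists_preimage_pullback (f := p) (g := U.ι) w y hwt
  have hz1 : m (h.isoPullback.inv z) = w := by rw [← Scheme.Hom.comp_apply, h.isoPullback_inv_fst, hzw]
  have hz2 : p' (h.isoPullback.inv z) = y := by rw [← Scheme.Hom.comp_apply, h.isoPullback_inv_snd, hzt]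
  obtain ⟨z', hz'⟩ : h.isoPullback.inv z ∈ Set.range (p'.fiberι y) := by
    rw [p'.range_fiberι]
    exact hz2
  refine ne_zero_of_gen (z := z') trivial
    ((gen_res'_iff (p'.fiberι y) (PicLoc.isInvertible_pullback m hL) _ (W' := ⊤) le_top (z := z') trivial).2 ?_)
  refine (gen_res'_iff m hL σ hm (z := p'.fiberι y z') trivial).2 ?_
  have key : ∀ u (hu : u ∈ p ⁻¹ᵁ D), u = w → Amp.Gen (Amp.gm L u hu σ) := fun u hu h => by
    subst h
    exact hGgen u hwG
  exact key _ _ (by rw [hz']; exact hz1)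

end Groth.Agent.PicRep20
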