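import Groth.Agent.Lib.PicRep20.Unique
import Groth.Agent.Lib.PicRep20.Curve
import Groth.Agent.Lib.PicRep20.Zero
import Groth.Agent.Lib.GeomIrr18.Scheme
import Groth.Agent.Lib.AbDual21.Phi
import Groth.Agent.S1170

/-!
# Classes of degree `g` without first cohomology are represented by an open part of the Hilbert scheme
-/

set_option autoImplicit false
set_option linter.style.haveILetI false
set_option linter.unusedSectionVars false
set_option maxHeartbeats 2000000
set_option backward.isDefEq.respectTransparency false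
set_option backward.isDefEq.respectTransparency.types false

universe u

open CategoryTheory CategoryTheory.Limits AlgebraicGeometry TopologicalSpace

noncomputable section

namespace Groth.Agent.PicRep20

open Groth.Agent.Abel10 Groth.Agent.ModLimH13
open Groth.Agent.PicDesc21 (pullCl_pullCl pullCl_mulCl pullCl_structure pullCl_trivial isInvertibleCl_pull mulCl_one)

variable {k : Type u} [Field k] {X : Scheme.{u}} (f : X ⟶ Spec (CommRingCat.of k)) [IsProper f] [Smooth f]
  [GeometricallyConnected f] (hdim : topologicalKrullDim X = 1) {g : ℕ}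
  (hg : letI : X.Over (Spec (CommRingCat.of k)) := ⟨f⟩; Curv2.genus k X = g)
  {H : Over (Spec (CommRingCat.of k))} (Z : HilbD.Obj f g H)
  {L : (PicF.XT f H).Modules} (hL : PicF.IsInvertible L) {s : Γ(L, (⊤ : (PicF.XT f H).Opens))}
  (hs : LocEq L Z.1 s)

include hs in
/-- The pullback of the canonical section. -/
theorem locEq_pull {T : Over (Spec (CommRingCat.of k))} (a : T ⟶ H) :
    LocEq ((Scheme.Modules.pullback (PicF.XTmap f a)).obj L) (HilbD.pull f a Z.1)
      (res' (PicF.XTmap f a) L (W := ⊤) (W' := ⊤) le_top s) := by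
  rw [HilbBC25.pull_eq_comap]
  exact hs.comap _

variable (hZ : HilbD.IsUniversal f g H Z)

include hdim hg hL hs hZ in
/-- A point of the Hilbert scheme is determined by a class without first cohomology. -/
theorem eq_of_pull_eq {T : Over (Spec (CommRingCat.of k))} {a b : T ⟶ H}
    (e : PicF.pullCl (PicF.XTmap f a) (PicF.cl L) = PicF.pullCl (PicF.XTmap f b) (PicF.cl L))
    (hgood : Good f T g (PicF.pullCl (PicF.XTmap f b) (PicF.cl L))) : a = b := by
  let p := PicF.XTproj f T
  haveI : IsProper p := inferInstanceAs (IsProper (pullback.snd f T.hom))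
  haveI : Smooth p := inferInstanceAs (Smooth (pullback.snd f T.hom))
  haveI : GeometricallyConnected p := inferInstanceAs (GeometricallyConnected (pullback.snd f T.hom))
  rw [PicLoc.pullCl_cl, PicLoc.pullCl_cl] at e
  rw [PicLoc.pullCl_cl] at hgood
  obtain ⟨i⟩ := (PicGrp.cl_eq_cl_iff _ _).1 e
  have ha := HilbBC25.isFinLocFreeOfDeg_pull f g a Z.1 Z.2
  have hb := HilbBC25.isFinLocFreeOfDeg_pull f g b Z.1 Z.2
  have hLb : PicF.IsInvertible ((Scheme.Modules.pullback (PicF.XTmap f b)).obj L) := PicLoc.isInvertible_pullback _ hL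
  have h := eq_of_iso p (fun t => Abel10.topologicalKrullDim_fiber_snd f T.hom (fiber_dim f hdim) t)
    (fun t => (genus_fibre f T t).trans hg) (PicLoc.isInvertible_pullback _ hL) hLb i (locEq_pull f Z hs a)
    (locEq_pull f Z hs b) ha hb fun t => (h1_fibre f T t hLb).2 (hgood t).2
  exact (hZ T ⟨_, hb⟩).unique h rfl

include hdim hg hL hs hZ in
/-- A class of degree `g` without first cohomology is locally on the base the class of a divisor. -/
theorem exists_local {T : Over (Spec (CommRingCat.of k))} {c : PicF.Cl (PicF.XT f T)} (hc : PicF.IsInvertibleCl c)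
    (hgood : Good f T g c) (t : T.left) :
    ∃ (U : T.left.Opens) (a : AbDual.ovr T U.ι ⟶ H), t ∈ U ∧
      PicF.pullCl (PicF.XTmap f a) (PicF.cl L) = PicF.pullCl (PicF.XTmap f (AbDual.ovrHom T U.ι)) c := by
  obtain ⟨M, rfl, hM⟩ := hc
  let p := PicF.XTproj f T
  haveI : IsProper p := inferInstanceAs (IsProper (pullback.snd f T.hom))
  haveI : Smooth p := inferInstanceAs (Smooth (pullback.snd f T.hom))
  haveI : GeometricallyConnected p := inferInstanceAs (GeometricallyConnected (pullback.snd f T.hom))
  have hd := Abel10.topologicalKrullDim_fiber_snd f T.hom (fiber_dim f hdim) t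
  letI : (p.fiber t).Over (Spec (CommRingCat.of (T.left.residueField t))) := ⟨p.fiberToSpecResidueField t⟩
  have sq : IsPullback (p.fiberι t) (p.fiber t ↘ Spec (CommRingCat.of (T.left.residueField t))) p
      (T.left.fromSpecResidueField t) := IsPullback.of_hasPullback _ _
  haveI := isProper_fieldPt sq
  haveI := smooth_fieldPt sq
  haveI := geometricallyConnected_fieldPt sq
  haveI := isIntegral_fieldPt sq
  haveI : GeometricallyReduced (p.fiber t ↘ Spec (CommRingCat.of (T.left.residueField t))) :=
    GeomRed.geometricallyReduced_of_smooth (k := T.left.residueField t) (X := p.fiber t)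
  have hX := VB17.curveLike (k := T.left.residueField t) (X := p.fiber t) hd
  haveI := hX.noetherian
  have hMt := PicLoc.isInvertible_pullback (p.fiberι t) hM
  have h1 := (h1_fibre f T t hM).2 (hgood t).2
  have hrr := hX.rr (CurveCoh17.rkOne_of_invertible hd.le hMt).coh
  rw [S1536.result (T.left.residueField t) (p.fiber t), deg_fibre f hdim T t hM, (hgood t).1,
    (genus_fibre f T t).trans hg, Module.finrank_zero_of_subsingleton
      (M := Coh.HH (p.fiber t) ((Scheme.Modules.pullback (p.fiberι t)).obj M) 1)] at hrr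
  haveI : Nontrivial (Coh.HH (p.fiber t) ((Scheme.Modules.pullback (p.fiberι t)).obj M) 0) :=
    Module.nontrivial_of_finrank_eq_succ (R := T.left.residueField t) (n := 0) (by omega)
  obtain ⟨U, htU, hU⟩ := exists_nhd_nonzero p hM t h1
    (CurveCoh17.hh0 ((Scheme.Modules.pullback (p.fiberι t)).obj M)).toEquiv.symm.nontrivial
  let T' := AbDual.ovr T U.ι
  let j : T' ⟶ T := AbDual.ovrHom T U.ι
  let p' := PicF.XTproj f T'
  obtain ⟨σ', hσ'⟩ := hU (PicF.XTmap f j) p' (HilbBC25.isPullback_XTmap f j)
  let M' := (Scheme.Modules.pullback (PicF.XTmap f j)).obj M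
  have hM' : PicF.IsInvertible M' := PicLoc.isInvertible_pullback _ hM
  haveI : IsProper p' := inferInstanceAs (IsProper (pullback.snd f T'.hom))
  haveI : Smooth p' := inferInstanceAs (Smooth (pullback.snd f T'.hom))
  haveI : GeometricallyConnected p' := inferInstanceAs (GeometricallyConnected (pullback.snd f T'.hom))
  have hgood' : Good f T' g (PicF.cl M') := by
    have h := Good.pull f j ⟨M, rfl, hM⟩ hgood
    rwa [PicLoc.pullCl_cl] at h
  obtain ⟨J, hJs, hJ⟩ := exists_obj p'
    (fun y => Abel10.topologicalKrullDim_fiber_snd f T'.hom (fiber_dim f hdim) y) hM' σ' hσ' (d := g)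
    (fun y => (deg_fibre f hdim T' y hM').trans (hgood' y).1)
  obtain ⟨a, ha, -⟩ := hZ T' ⟨J, hJ⟩
  refine ⟨U, a, htU, ?_⟩
  haveI := smoothOfRelativeDimension_proj f hdim T'
  have hE : BlowUp.IsEffCartierIdeal J := ((S1184.result p' J).2 hJ.1).1
  have hsa := locEq_pull f Z hs a
  rw [ha] at hsa
  obtain ⟨e₁⟩ := nonempty_iso_of_locEq hE (PicLoc.isInvertible_pullback _ hL) hsa
  obtain ⟨e₂⟩ := nonempty_iso_of_locEq hE hM' hJs
  rw [PicLoc.pullCl_cl, PicLoc.pullCl_cl]
  exact eq_of_mulCl_eq_one (c := PicF.cl (ClSub.idealMod J)) (M2.cl_eq_of_iso e₁) (M2.cl_eq_of_iso e₂)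

end Groth.Agent.PicRep20
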