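import Groth.Agent.Lib.PicRep20.Pic
import Groth.Prelude.Def_ModFun2

/-!
# The moduli problem of line bundles of given degree on a curve
-/

set_option autoImplicit false
set_option linter.style.haveILetI false
set_option linter.unusedSectionVars false
set_option maxHeartbeats 2000000
set_option backward.isDefEq.respectTransparency false
set_option backward.isDefEq.respectTransparency.types false

universe u

open CategoryTheory CategoryTheory.Limits AlgebraicGeometry TopologicalSpace Opposite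

noncomputable section

namespace Groth.Agent.PicRep20

open Groth.Agent.Abel10 (pc pc_comp pc_id)

noncomputable local instance instLawDeg (Y : Scheme.{u}) : PicGrp.Law Y := M2.law Y

variable {k : Type u} [Field k] {X : Scheme.{u}} (f : X ⟶ Spec (CommRingCat.of k)) [IsProper f] [Smooth f]
  [GeometricallyConnected f] [IsIntegral X] [GeometricallyIrreducible f] (hdim : topologicalKrullDim X = 1)

include hdim in
/-- Degrees at geometric points are degrees of classes. -/
theorem deg_geomPt {T : Over (Spec (CommRingCat.of k))} {Ω : Type u} [Field Ω] [IsAlgClosed Ω]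
    (s : Spec (CommRingCat.of Ω) ⟶ T.left) {L : (PicF.XT f T).Modules} (hL : PicF.IsInvertible L) :
    letI : (PicF.XT f (Over.mk (s ≫ T.hom))).Over (Spec (CommRingCat.of Ω)) :=
      ⟨PicF.XTproj f (Over.mk (s ≫ T.hom))⟩
    Curv2.deg Ω (PicF.XT f (Over.mk (s ≫ T.hom)))
      ((Scheme.Modules.pullback (PicF.XTmap f (Over.homMk s rfl : Over.mk (s ≫ T.hom) ⟶ T))).obj L) 1 =
      PicTan20.degCl f T (s (IsLocalRing.closedPoint Ω)) (PicF.cl L) := by
  letI : (PicF.XT f (Over.mk (s ≫ T.hom))).Over (Spec (CommRingCat.of Ω)) :=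
    ⟨PicF.XTproj f (Over.mk (s ≫ T.hom))⟩
  exact (Abel10.deg_fieldPt (f := PicF.XTproj f T)
    (HilbBC25.isPullback_XTmap f (Over.homMk s rfl : Over.mk (s ≫ T.hom) ⟶ T)) hL).trans
    (deg_fibre f hdim T _ hL)

include hdim in
/-- The degree condition of `ModFun.PicDeg` in terms of classes. -/
theorem fibDeg_iff (d : ℤ) {T : Over (Spec (CommRingCat.of k))} {L : (PicF.XT f T).Modules}
    (hL : PicF.IsInvertible L) :
    ModFun.FibDeg f 1 d T L ↔ ∀ t, PicTan20.degCl f T t (PicF.cl L) = d := by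
  constructor
  · intro h t
    have hs : (Spec.map (CommRingCat.ofHom (algebraMap (T.left.residueField t)
        (AlgebraicClosure (T.left.residueField t)))) ≫ T.left.fromSpecResidueField t)
          (IsLocalRing.closedPoint (AlgebraicClosure (T.left.residueField t))) = t := by
      rw [Scheme.Hom.comp_apply]
      exact Scheme.fromSpecResidueField_apply t _
    rw [← hs, ← deg_geomPt f hdim _ hL]
    exact h _ _
  · intro h Ω _ _ s
    exact (deg_geomPt f hdim s hL).trans (h _)

include hdim in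
theorem degCl_pow {T : Over (Spec (CommRingCat.of k))} (t : T.left) (c : PicLoc.PicSet (PicF.XT f T)) (n : ℕ) :
    PicTan20.degCl f T t (c ^ n).1 = n * PicTan20.degCl f T t c.1 := by
  induction n with
  | zero => rw [pow_zero, degCl_one hdim]; simp
  | succ n ih =>
    rw [pow_succ, PicTan20.degCl_mul f (fiber_dim f hdim), ih]
    push_cast
    ring

include hdim in
theorem degCl_inv {T : Over (Spec (CommRingCat.of k))} (t : T.left) (c : PicLoc.PicSet (PicF.XT f T)) :
    PicTan20.degCl f T t (c⁻¹).1 = -PicTan20.degCl f T t c.1 := by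
  have h := PicTan20.degCl_mul f (fiber_dim f hdim) t c⁻¹ c
  rw [inv_mul_cancel, degCl_one hdim] at h
  omega

include hdim in
/-- The ideal of a rational point has degree `-1` on every fibre. -/
theorem degCl_ptCls (σ : Spec (CommRingCat.of k) ⟶ X) (hσ : σ ≫ f = 𝟙 _) (T : Over (Spec (CommRingCat.of k)))
    (t : T.left) :
    letI : X.Over (Spec (CommRingCat.of k)) := ⟨f⟩
    haveI : IsProper (X ↘ Spec (CommRingCat.of k)) := ‹IsProper f›
    haveI : Smooth (X ↘ Spec (CommRingCat.of k)) := ‹Smooth f›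
    PicTan20.degCl f T t (pc (pullback.fst f T.hom) (Abel10.ptCls hdim σ hσ)).1 = -1 := by
  letI : X.Over (Spec (CommRingCat.of k)) := ⟨f⟩
  haveI : IsProper (X ↘ Spec (CommRingCat.of k)) := ‹IsProper f›
  haveI : Smooth (X ↘ Spec (CommRingCat.of k)) := ‹Smooth f›
  let p := PicF.XTproj f T
  haveI : IsProper p := inferInstanceAs (IsProper (pullback.snd f T.hom))
  haveI : Smooth p := inferInstanceAs (Smooth (pullback.snd f T.hom))
  haveI : GeometricallyConnected p := inferInstanceAs (GeometricallyConnected (pullback.snd f T.hom))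
  let K := T.left.residueField t
  letI : (p.fiber t).Over (Spec (CommRingCat.of K)) := ⟨p.fiberToSpecResidueField t⟩
  have sq : IsPullback (p.fiberι t) (p.fiber t ↘ Spec (CommRingCat.of K)) p (T.left.fromSpecResidueField t) :=
    IsPullback.of_hasPullback _ _
  haveI := Abel10.isProper_fieldPt sq
  haveI := Abel10.smooth_fieldPt sq
  haveI := Abel10.geometricallyConnected_fieldPt sq
  haveI := Abel10.isIntegral_fieldPt sq
  letI : Algebra k K := (Spec.preimage (T.left.fromSpecResidueField t ≫ T.hom)).hom.toAlgebra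
  have hpb : IsPullback (p.fiberι t ≫ pullback.fst f T.hom) (p.fiber t ↘ Spec (CommRingCat.of K))
      (X ↘ Spec (CommRingCat.of k)) (Spec.map (CommRingCat.ofHom (algebraMap k K))) := by
    rw [show Spec.map (CommRingCat.ofHom (algebraMap k K)) = T.left.fromSpecResidueField t ≫ T.hom from
      Spec.map_preimage _]
    exact sq.paste_horiz (IsPullback.of_hasPullback f T.hom)
  have hI := Abel10.isInvertible_point hdim σ hσ
  rw [Abel10.ptCls, pc, PicGrp.pullHom_cls]
  refine (deg_fibre f hdim T t (PicLoc.isInvertible_pullback _ hI)).symm.trans ?_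
  refine (CurveCoh17.deg_iso ((Scheme.Modules.pullbackComp (p.fiberι t) (pullback.fst f T.hom)).app _)).trans ?_
  exact (point_step hpb hdim (Abel10.topologicalKrullDim_fiber_snd f T.hom (fiber_dim f hdim) t) ⟨σ, hσ⟩).1

include hdim in
/-- A rational point gives classes of every nonnegative degree. -/
theorem exists_degree_class (σ : Spec (CommRingCat.of k) ⟶ X) (hσ : σ ≫ f = 𝟙 _) {d : ℤ} (hd : 0 ≤ d) :
    ∃ w : PicLoc.PicSet X, ∀ (T : Over (Spec (CommRingCat.of k))) (t : T.left),
      PicTan20.degCl f T t (pc (pullback.fst f T.hom) w).1 = d := by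
  letI : X.Over (Spec (CommRingCat.of k)) := ⟨f⟩
  haveI : IsProper (X ↘ Spec (CommRingCat.of k)) := ‹IsProper f›
  haveI : Smooth (X ↘ Spec (CommRingCat.of k)) := ‹Smooth f›
  refine ⟨(Abel10.ptCls hdim σ hσ)⁻¹ ^ d.toNat, fun T t => ?_⟩
  rw [map_pow, map_inv, degCl_pow f hdim, degCl_inv f hdim]
  rw [degCl_ptCls f hdim σ hσ T t, neg_neg, mul_one, Int.toNat_of_nonneg hd]

variable (σ : Spec (CommRingCat.of k) ⟶ X) (hσ : σ ≫ f = 𝟙 _) (d : ℤ)

/-- An admissible family gives a class. -/
def famCls {T : Over (Spec (CommRingCat.of k))} {L : (PicF.XT f T).Modules}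
    (h : (ModFun.PicDeg f d).ok T L) : PicLoc.PicSet (PicF.XT f T) :=
  PicGrp.cls L ((M2.isInvertible_iff_isFinLocFreeOfRank_one L).2 h.1.2)

include hdim in
theorem degCl_famCls {T : Over (Spec (CommRingCat.of k))} {L : (PicF.XT f T).Modules}
    (h : (ModFun.PicDeg f d).ok T L) (t : T.left) : PicTan20.degCl f T t (famCls f d h).1 = d :=
  (fibDeg_iff f hdim d ((M2.isInvertible_iff_isFinLocFreeOfRank_one L).2 h.1.2)).1 h.2 t

include hdim in
theorem ok_of_class {T : Over (Spec (CommRingCat.of k))} {L : (PicF.XT f T).Modules} (hL : PicF.IsInvertible L)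
    (h : ∀ t, PicTan20.degCl f T t (PicF.cl L) = d) : (ModFun.PicDeg f d).ok T L :=
  ⟨⟨trivial, (M2.isInvertible_iff_isFinLocFreeOfRank_one L).1 hL⟩, (fibDeg_iff f hdim d hL).2 h⟩

theorem r_iff {T : Over (Spec (CommRingCat.of k))} {E E' : (PicF.XT f T).Modules}
    (hE : PicF.IsInvertible E) (hE' : PicF.IsInvertible E') :
    (ModFun.PicDeg f d).r T E E' ↔
      ∃ m : PicLoc.PicSet T.left, PicGrp.cls E' hE' = PicGrp.cls E hE * pc (PicF.XTproj f T) m := by
  constructor
  · rintro ⟨M, hM, ⟨e⟩⟩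
    refine ⟨PicGrp.cls M hM, Subtype.ext ?_⟩
    rw [pc, PicGrp.pullHom_cls, AlgEquiv22.cls_tensor hE (PicLoc.isInvertible_pullback _ hM)]
    exact (PicGrp.cl_eq_cl_iff _ _).2 ⟨e⟩
  · rintro ⟨m, hm⟩
    obtain ⟨M, hM, rfl⟩ := PicGrp.exists_eq_cls m
    rw [pc, PicGrp.pullHom_cls, AlgEquiv22.cls_tensor hE (PicLoc.isInvertible_pullback _ hM)] at hm
    exact ⟨M, hM, (PicGrp.cl_eq_cl_iff _ _).1 (congrArg Subtype.val hm)⟩

variable {f} {σ hσ} {P : Over (Spec (CommRingCat.of k))} {u : PicF.Rig f σ hσ P}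
  (hu : ∀ (T : Over (Spec (CommRingCat.of k))) (c : PicF.Rig f σ hσ T),
    ∃! g : T ⟶ P, PicF.pullCl (PicF.XTmap f g) u.1 = c.1)
  {d} {w : PicLoc.PicSet X}
  (hw : ∀ (T : Over (Spec (CommRingCat.of k))) (t : T.left),
    PicTan20.degCl f T t (pc (pullback.fst f T.hom) w).1 = d)

variable (u w) in
/-- The degree `d` class on the degree zero part. -/
def degUniv : PicLoc.PicSet (PicF.XT f (zeroPart u hdim)) :=
  toPic (rigMap (zeroIncl u hdim) u) * pc (pullback.fst f (zeroPart u hdim).hom) w

include hw in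
theorem degCl_degUniv (t : (zeroPart u hdim).left) :
    PicTan20.degCl f (zeroPart u hdim) t (degUniv hdim u w).1 = d := by
  have h := deg_zeroPart hdim (𝟙 (zeroPart u hdim)) t
  rw [Category.id_comp] at h
  rw [degUniv, PicTan20.degCl_mul f (fiber_dim f hdim), hw]
  exact (congrArg (· + d) h).trans (zero_add d)

theorem pc_degUniv {T : Over (Spec (CommRingCat.of k))} (g : T ⟶ zeroPart u hdim) :
    pc (PicF.XTmap f g) (degUniv hdim u w) =
      toPic (rigMap (g ≫ zeroIncl u hdim) u) * pc (pullback.fst f T.hom) w := by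
  rw [degUniv, map_mul, pc_comp _ _ (HilbBC25.XTmap_fst f g), rigMap_comp]
  rfl

include hu hw in
/-- Classes of degree `d` come from a unique morphism to the degree zero part, up to twists from the base. -/
theorem existsUnique_deg {T : Over (Spec (CommRingCat.of k))} (c : PicLoc.PicSet (PicF.XT f T))
    (hc : ∀ t, PicTan20.degCl f T t c.1 = d) :
    ∃! g : T ⟶ zeroPart u hdim,
      ∃ m, c = pc (PicF.XTmap f g) (degUniv hdim u w) * pc (PicF.XTproj f T) m := by
  let c₀ := c * (pc (pullback.fst f T.hom) w)⁻¹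
  have h₀ : ∀ t, PicTan20.degCl f T t c₀.1 = 0 := fun t => by
    rw [PicTan20.degCl_mul f (fiber_dim f hdim), degCl_inv f hdim, hc, hw, add_neg_cancel]
  have hn : ∀ (y : PicLoc.PicSet (PicF.XT f T)) (m : PicLoc.PicSet T.left),
      normCls σ hσ (y * pc (PicF.XTproj f T) m) = normCls σ hσ y := fun y m => by
    apply toPic_injective
    show y * pc (PicF.XTproj f T) m *
        pc (PicF.XTproj f T) (pc (PicF.secT f σ hσ T) (y * pc (PicF.XTproj f T) m))⁻¹ =
      y * pc (PicF.XTproj f T) (pc (PicF.secT f σ hσ T) y)⁻¹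
    rw [map_mul, pc_secT_proj, mul_inv, map_mul, map_inv, map_inv]
    simp [mul_comm, mul_left_comm, mul_assoc]
  refine ⟨liftZero hdim (toHom hu c₀) fun t => (degCl_toHom hu _ t).trans (h₀ t),
    ⟨pc (PicF.secT f σ hσ T) c₀, ?_⟩, ?_⟩
  · rw [pc_degUniv, liftZero_incl, rigMap_toHom]
    show c = c₀ * pc (PicF.XTproj f T) (pc (PicF.secT f σ hσ T) c₀)⁻¹ * pc (pullback.fst f T.hom) w *
      pc (PicF.XTproj f T) (pc (PicF.secT f σ hσ T) c₀)
    simp [c₀, map_inv, mul_comm, mul_left_comm, mul_assoc]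
  · rintro g ⟨m, hm⟩
    refine zeroIncl_cancel hdim (hom_ext hu ?_)
    rw [liftZero_incl, rigMap_toHom]
    have hc₀ : c₀ = toPic (rigMap (g ≫ zeroIncl u hdim) u) * pc (PicF.XTproj f T) m := by
      simp only [c₀, hm, pc_degUniv]
      simp [mul_comm, mul_left_comm, mul_assoc]
    rw [hc₀, hn, normCls_toPic]

end Groth.Agent.PicRep20
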