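import Groth.Agent.Lib.PicRep20.BC
import Groth.Agent.Lib.PicRep20.Deg
import Mathlib.FieldTheory.IsSepClosed
import Mathlib.FieldTheory.IntermediateField.Adjoin.Basic

/-!
# Finitely many translates cover over a finite extension
-/

set_option autoImplicit false
set_option linter.style.haveILetI false
set_option linter.unusedSectionVars false
set_option maxHeartbeats 2000000
set_option synthInstance.maxHeartbeats 200000
set_option backward.isDefEq.respectTransparency false
set_option backward.isDefEq.respectTransparency.types false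

universe u

open CategoryTheory CategoryTheory.Limits AlgebraicGeometry TopologicalSpace

noncomputable section

namespace Groth.Agent.PicRep20

open Groth.Agent.Abel10 (pc pc_comp pc_id)

noncomputable local instance instLawFinField (Y : Scheme.{u}) : PicGrp.Law Y := M2.law Y

section Factor

variable {k : Type u} [Field k] {Ω : Type u} [Field Ω] [Algebra k Ω] [Algebra.IsAlgebraic k Ω]
  {X : Scheme.{u}} {f : X ⟶ Spec (CommRingCat.of k)} [LocallyOfFiniteType f]

/-- A point with values in an algebraic extension is defined over a finite extension. -/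
theorem exists_factor_finite (x : Spec (CommRingCat.of Ω) ⟶ X)
    (hx : x ≫ f = Spec.map (CommRingCat.ofHom (algebraMap k Ω))) :
    ∃ F : IntermediateField k Ω, FiniteDimensional k F ∧ ∃ y : Spec (CommRingCat.of F) ⟶ X,
      Spec.map (CommRingCat.ofHom (F.val : F →+* Ω)) ≫ y = x ∧
        y ≫ f = Spec.map (CommRingCat.ofHom (algebraMap k F)) := by
  classical
  obtain ⟨U, hU, hzU, -⟩ := exists_isAffineOpen_mem_and_subset (U := (⊤ : X.Opens))
    (x := x (IsLocalRing.closedPoint Ω)) trivial
  let x' : Spec (CommRingCat.of Ω) ⟶ U.toScheme := IsOpenImmersion.lift U.ι x (by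
    rintro _ ⟨z, rfl⟩
    rw [Scheme.Opens.range_ι, Subsingleton.elim (α := PrimeSpectrum Ω) z (IsLocalRing.closedPoint Ω)]
    exact hzU)
  have hx' : x' ≫ U.ι = x := IsOpenImmersion.lift_fac _ _ _
  obtain ⟨α, hα⟩ := Spec.map_surjective (hU.fromSpec ≫ f)
  obtain ⟨ψ, hψ⟩ := Spec.map_surjective (x' ≫ hU.isoSpec.hom)
  have hψf : Spec.map ψ ≫ hU.fromSpec = x := by
    rw [hψ, Category.assoc, hU.isoSpec_hom_fromSpec, hx']
  letI : Algebra k Γ(X, U) := α.hom.toAlgebra
  have hFT : RingHom.FiniteType α.hom := by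
    rw [← HasRingHomProperty.Spec_iff (P := @LocallyOfFiniteType), hα]
    infer_instance
  haveI : Algebra.FiniteType k Γ(X, U) := hFT
  obtain ⟨s, hs⟩ := ‹Algebra.FiniteType k Γ(X, U)›.out
  have hc : α ≫ ψ = CommRingCat.ofHom (algebraMap k Ω) := Spec.map_injective (by
    rw [Spec.map_comp, hα, ← Category.assoc, hψf, hx])
  let ψa : Γ(X, U) →ₐ[k] Ω := { ψ.hom with commutes' := fun c => congrArg (fun h => h.hom c) hc }
  let F := IntermediateField.adjoin k (↑(s.image ψa) : Set Ω)
  have hF : FiniteDimensional k F :=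
    IntermediateField.finiteDimensional_adjoin fun z _ => (Algebra.IsAlgebraic.isAlgebraic z).isIntegral
  have hmem : ∀ a, ψa a ∈ F.toSubalgebra := by
    have : Algebra.adjoin k (↑s : Set Γ(X, U)) ≤ F.toSubalgebra.comap ψa := Algebra.adjoin_le fun a ha =>
      IntermediateField.subset_adjoin k _ (Finset.mem_image_of_mem ψa ha)
    rw [hs] at this
    exact fun a => this (Algebra.mem_top (x := a))
  let ψ' : Γ(X, U) →ₐ[k] F := ψa.codRestrict F.toSubalgebra hmem
  refine ⟨F, hF, Spec.map (CommRingCat.ofHom ψ'.toRingHom) ≫ hU.fromSpec, ?_, ?_⟩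
  · rw [← Category.assoc, ← Spec.map_comp]
    exact hψf
  · rw [Category.assoc, ← hα, ← Spec.map_comp]
    exact congrArg Spec.map (CommRingCat.hom_ext (RingHom.ext fun c => ψ'.commutes c))

/-- Finitely many points with values in an algebraic extension are defined over one finite extension. -/
theorem exists_factor_list (l : List {x : Spec (CommRingCat.of Ω) ⟶ X //
      x ≫ f = Spec.map (CommRingCat.ofHom (algebraMap k Ω))}) :
    ∃ F : IntermediateField k Ω, FiniteDimensional k F ∧ ∀ x ∈ l, ∃ y : Spec (CommRingCat.of F) ⟶ X,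
      Spec.map (CommRingCat.ofHom (F.val : F →+* Ω)) ≫ y = x.1 ∧
        y ≫ f = Spec.map (CommRingCat.ofHom (algebraMap k F)) := by
  induction l with
  | nil => exact ⟨⊥, inferInstance, fun x hx => absurd hx List.not_mem_nil⟩
  | cons a l ih =>
    obtain ⟨F₁, h₁, y₁, hy₁, hy₁'⟩ := exists_factor_finite a.1 a.2
    obtain ⟨F₂, h₂, hy₂⟩ := ih
    haveI := h₁
    haveI := h₂
    have key : ∀ (E : IntermediateField k Ω) (hE : E ≤ F₁ ⊔ F₂) (x : Spec (CommRingCat.of Ω) ⟶ X)
        (y : Spec (CommRingCat.of E) ⟶ X), Spec.map (CommRingCat.ofHom (E.val : E →+* Ω)) ≫ y = x →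
        y ≫ f = Spec.map (CommRingCat.ofHom (algebraMap k E)) →
        ∃ z : Spec (CommRingCat.of ↥(F₁ ⊔ F₂)) ⟶ X,
          Spec.map (CommRingCat.ofHom ((F₁ ⊔ F₂).val : ↥(F₁ ⊔ F₂) →+* Ω)) ≫ z = x ∧
            z ≫ f = Spec.map (CommRingCat.ofHom (algebraMap k ↥(F₁ ⊔ F₂))) := fun E hE x y h h' =>
      ⟨Spec.map (CommRingCat.ofHom (IntermediateField.inclusion hE).toRingHom) ≫ y,
        by rw [← Category.assoc, ← Spec.map_comp, ← h]; rfl,
        by
          rw [Category.assoc, h', ← Spec.map_comp]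
          exact congrArg Spec.map (CommRingCat.hom_ext
            (RingHom.ext fun c => (IntermediateField.inclusion hE).commutes c))⟩
    refine ⟨F₁ ⊔ F₂, inferInstance, fun x hx => ?_⟩
    rcases List.mem_cons.1 hx with rfl | hx
    · exact key F₁ le_sup_left _ y₁ hy₁ hy₁'
    · obtain ⟨y, hy, hy'⟩ := hy₂ x hx
      exact key F₂ le_sup_right _ y hy hy'

end Factor

section Compare

variable {k : Type u} [Field k] {X : Scheme.{u}} [X.Over (Spec (CommRingCat.of k))]
  [IsProper (X ↘ Spec (CommRingCat.of k))] [Smooth (X ↘ Spec (CommRingCat.of k))] [IsIntegral X]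
  {K : Type u} [Field K] {XK : Scheme.{u}} [XK.Over (Spec (CommRingCat.of K))]
  [IsProper (XK ↘ Spec (CommRingCat.of K))] [Smooth (XK ↘ Spec (CommRingCat.of K))] [IsIntegral XK]
  {g : XK ⟶ X} {i : Spec (CommRingCat.of K) ⟶ Spec (CommRingCat.of k)}
  (hpb : IsPullback g (XK ↘ Spec (CommRingCat.of K)) (X ↘ Spec (CommRingCat.of k)) i)
  (hdim : topologicalKrullDim X = 1) (hdimK : topologicalKrullDim XK = 1)

include hpb in
/-- The class of a rational point pulls back to the class of its base change. -/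
theorem pc_ptCls {σ : Spec (CommRingCat.of k) ⟶ X} (hσ : σ ≫ (X ↘ Spec (CommRingCat.of k)) = 𝟙 _)
    {σK : Spec (CommRingCat.of K) ⟶ XK} (hσK : σK ≫ (XK ↘ Spec (CommRingCat.of K)) = 𝟙 _)
    (hc : σK ≫ g = i ≫ σ) : pc g (Abel10.ptCls hdim σ hσ) = Abel10.ptCls hdimK σK hσK := by
  haveI := CurveCartier25.isClosedImmersion_section _ σ hσ
  have hcomap : σ.ker.comap g = σK.ker := CurveCartier25.comap_ker_section hpb σ σK hσ hσK hc
  obtain ⟨e⟩ := CurveTwist13.nonempty_pullback_idealMod_iso g (Abel10.isEffCartierIdeal_point hdim σ hσ)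
    (by rw [hcomap]; exact Abel10.isEffCartierIdeal_point hdimK σK hσK)
  rw [hcomap] at e
  rw [Abel10.ptCls, pc, PicGrp.pullHom_cls]
  exact Subtype.ext ((PicGrp.cl_eq_cl_iff _ _).2 ⟨e⟩)

end Compare

variable {k : Type u} [Field k] {X : Scheme.{u}} (f : X ⟶ Spec (CommRingCat.of k)) [IsProper f] [Smooth f]
  [GeometricallyConnected f] [IsIntegral X] [GeometricallyIrreducible f] (hdim : topologicalKrullDim X = 1)
  (σ : Spec (CommRingCat.of k) ⟶ X) (hσ : σ ≫ f = 𝟙 _)

/-- Concatenation of words. -/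
def Word.append (a b : Word f) : Word f := (a.1 + b.1, a.2 ++ b.2)

theorem trCls_append (T : Over (Spec (CommRingCat.of k))) (a b : Word f) :
    trCls f hdim σ hσ T (Word.append f a b) = trCls f hdim σ hσ T a * trCls f hdim σ hσ T b := by
  simp only [trCls, wordOf, wordCls, Word.append, List.map_append, List.prod_append, pow_add, map_mul]
  exact mul_mul_mul_comm _ _ _ _

include hdim σ hσ in
/-- Words in the base point have every degree. -/
theorem exists_word_degree (n : ℤ) : ∃ a : Word f, ∀ (T : Over (Spec (CommRingCat.of k))) (t : T.left),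
    PicTan20.degCl f T t (trCls f hdim σ hσ T a).1 = n := by
  letI : X.Over (Spec (CommRingCat.of k)) := ⟨f⟩
  haveI : IsProper (X ↘ Spec (CommRingCat.of k)) := ‹IsProper f›
  haveI : Smooth (X ↘ Spec (CommRingCat.of k)) := ‹Smooth f›
  refine ⟨(n.toNat, List.replicate (-n).toNat ⟨σ, hσ⟩), fun T t => ?_⟩
  simp only [trCls, wordOf, wordCls, List.map_replicate, List.prod_replicate, map_mul, map_pow, map_inv]
  rw [PicTan20.degCl_mul f (fiber_dim f hdim), degCl_pow f hdim, degCl_pow f hdim, degCl_inv f hdim,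
    degCl_ptCls f hdim σ hσ T t]
  omega

include hdim hσ in
/-- Finitely many translates cover over some finite extension of the ground field. -/
theorem exists_finite_cover (Ω : Type u) [Field Ω] [Algebra k Ω] [Algebra.IsAlgebraic k Ω] [IsSepClosed Ω] :
    ∃ F : IntermediateField k Ω, FiniteDimensional k F ∧
      ∀ (hdF : topologicalKrullDim ↥(pullback f (Spec.map (CommRingCat.ofHom (algebraMap k F)))) = 1)
        [IsIntegral (pullback f (Spec.map (CommRingCat.ofHom (algebraMap k F))))]
        (T : Over (Spec (CommRingCat.of F)))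
        (c : PicLoc.PicSet (PicF.XT (pullback.snd f (Spec.map (CommRingCat.ofHom (algebraMap k F)))) T))
        (t : T.left),
        ∃ a : Word (pullback.snd f (Spec.map (CommRingCat.ofHom (algebraMap k F)))),
          PicTan20.degCl (pullback.snd f (Spec.map (CommRingCat.ofHom (algebraMap k F)))) T t
            (c * trCls (pullback.snd f (Spec.map (CommRingCat.ofHom (algebraMap k F)))) hdF (bcSec f _ σ hσ)
              (bcSec_snd f _ σ hσ) T a).1 =
            ((letI : (pullback f (Spec.map (CommRingCat.ofHom (algebraMap k F)))).Over (Spec (CommRingCat.of F)) :=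
              ⟨pullback.snd f _⟩; Curv2.genus F (pullback f (Spec.map (CommRingCat.ofHom (algebraMap k F))))) : ℕ) ∧
          h1Cl (pullback.snd f (Spec.map (CommRingCat.ofHom (algebraMap k F)))) T t
            (c * trCls (pullback.snd f (Spec.map (CommRingCat.ofHom (algebraMap k F)))) hdF (bcSec f _ σ hσ)
              (bcSec_snd f _ σ hσ) T a).1 = 0 := by
  classical
  let ps : Spec (CommRingCat.of Ω) ⟶ Spec (CommRingCat.of k) := Spec.map (CommRingCat.ofHom (algebraMap k Ω))
  let fS := pullback.snd f ps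
  letI : (pullback f ps).Over (Spec (CommRingCat.of Ω)) := ⟨fS⟩
  have sqS : IsPullback (pullback.fst f ps) (pullback f ps ↘ Spec (CommRingCat.of Ω)) f ps :=
    IsPullback.of_hasPullback f ps
  haveI := Abel10.isIntegral_fieldPt sqS
  have hdS : topologicalKrullDim ↥(pullback f ps) = 1 := Abel10.topologicalKrullDim_fieldPt sqS (fiber_dim f hdim)
  haveI : IsProper fS := Abel10.isProper_fieldPt sqS
  haveI : Smooth fS := Abel10.smooth_fieldPt sqS
  haveI : GeometricallyConnected fS := Abel10.geometricallyConnected_fieldPt sqS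
  haveI : GeometricallyIrreducible fS := MorphismProperty.pullback_snd _ _ inferInstance
  let σS := bcSec f ps σ hσ
  have hσS : σS ≫ fS = 𝟙 _ := bcSec_snd f ps σ hσ
  obtain ⟨P, u, hP, hu⟩ := exists_rep fS hdS σS hσS (g := _) rfl
  haveI := hP
  haveI : IsProper (zeroPart u hdS).hom := (zeroPart_props hu hdS).1
  haveI : CompactSpace (zeroPart u hdS).left := QuasiCompact.compactSpace_of_compactSpace (zeroPart u hdS).hom
  let uz := rigMap (zeroIncl u hdS) u
  have hcov := fun q => exists_good_at fS hdS σS hσS (g := Curv2.genus Ω (pullback f ps)) rfl (zeroPart u hdS)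
    (toPic uz) q
  choose w hw using hcov
  obtain ⟨W, hW⟩ := isCompact_univ.elim_finite_subcover
    (fun q => ((goodOpen fS hdS σS hσS (g := Curv2.genus Ω (pullback f ps)) rfl uz (w q) : Opens _) :
      Set (zeroPart u hdS).left))
    (fun q => (goodOpen fS hdS σS hσS (g := Curv2.genus Ω (pullback f ps)) rfl uz (w q)).2)
    fun q _ => Set.mem_iUnion.2 ⟨q, hw q⟩
  let pts : List {x : Spec (CommRingCat.of Ω) ⟶ X // x ≫ f = ps} :=
    W.toList.flatMap fun q => (w q).2.map fun x => ⟨x.1 ≫ pullback.fst f ps, by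
      rw [Category.assoc, pullback.condition, ← Category.assoc, x.2, Category.id_comp]⟩
  obtain ⟨F, hFd, hF⟩ := exists_factor_list (f := f) pts
  refine ⟨F, hFd, fun hdF _ T c t => ?_⟩
  let pF : Spec (CommRingCat.of F) ⟶ Spec (CommRingCat.of k) := Spec.map (CommRingCat.ofHom (algebraMap k F))
  let fF := pullback.snd f pF
  let iF : Spec (CommRingCat.of Ω) ⟶ Spec (CommRingCat.of F) :=
    Spec.map (CommRingCat.ofHom (F.val : F →+* Ω))
  have hiF : iF ≫ pF = ps := by
    rw [← Spec.map_comp]
    rfl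
  letI : (pullback f pF).Over (Spec (CommRingCat.of F)) := ⟨fF⟩
  have sqF : IsPullback (pullback.fst f pF) (pullback f pF ↘ Spec (CommRingCat.of F)) f pF :=
    IsPullback.of_hasPullback f pF
  haveI : IsProper fF := Abel10.isProper_fieldPt sqF
  haveI : Smooth fF := Abel10.smooth_fieldPt sqF
  haveI : GeometricallyConnected fF := Abel10.geometricallyConnected_fieldPt sqF
  haveI : GeometricallyIrreducible fF := MorphismProperty.pullback_snd _ _ inferInstance
  haveI : IsProper (pullback f pF ↘ Spec (CommRingCat.of F)) := ‹IsProper fF›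
  haveI : Smooth (pullback f pF ↘ Spec (CommRingCat.of F)) := ‹Smooth fF›
  haveI : IsProper (pullback f ps ↘ Spec (CommRingCat.of Ω)) := ‹IsProper fS›
  haveI : Smooth (pullback f ps ↘ Spec (CommRingCat.of Ω)) := ‹Smooth fS›
  let σF := bcSec f pF σ hσ
  have hσF : σF ≫ fF = 𝟙 _ := bcSec_snd f pF σ hσ
  let m : pullback f ps ⟶ pullback f pF := pullback.lift (pullback.fst f ps) (fS ≫ iF) (by
    rw [Category.assoc, hiF]; exact pullback.condition)
  have hm1 : m ≫ pullback.fst f pF = pullback.fst f ps := pullback.lift_fst _ _ _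
  have hm2 : m ≫ fF = fS ≫ iF := pullback.lift_snd _ _ _
  have sqm : IsPullback m fS fF iF := by
    refine IsPullback.of_right ?_ hm2 (IsPullback.of_hasPullback f pF)
    rw [hm1, hiF]
    exact IsPullback.of_hasPullback f ps
  have hgen : (Curv2.genus Ω (pullback f ps) : ℤ) = Curv2.genus F (pullback f pF) := by
    refine congrArg Nat.cast ((Abel10.genus_fieldPt sqS).trans ((Abel10.genus_fieldPt sqF).trans ?_).symm).symm.symm
    haveI : Subsingleton (Spec (CommRingCat.of k)) := inferInstanceAs (Subsingleton (PrimeSpectrum k))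
    rw [Subsingleton.elim (pF (IsLocalRing.closedPoint F)) (ps (IsLocalRing.closedPoint Ω))]
  -- make the degree zero
  obtain ⟨a₀, ha₀⟩ := exists_word_degree fF hdF σF hσF (-(PicTan20.degCl fF T t c.1))
  let c' := c * trCls fF hdF σF hσF T a₀
  have hc' : PicTan20.degCl fF T t c'.1 = 0 := by
    rw [PicTan20.degCl_mul fF (fiber_dim fF hdF), ha₀, add_neg_cancel]
  -- a large field over the point
  let L := AlgebraicClosure (T.left.residueField t)
  let s : Spec (CommRingCat.of L) ⟶ T.left :=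
    Spec.map (CommRingCat.ofHom (algebraMap (T.left.residueField t) L)) ≫ T.left.fromSpecResidueField t
  have hs : ∀ z, s z = t := fun z => by
    rw [Scheme.Hom.comp_apply]
    exact Scheme.fromSpecResidueField_apply t _
  letI : Algebra F L := (Spec.preimage (s ≫ T.hom)).hom.toAlgebra
  have hsT : Spec.map (CommRingCat.ofHom (algebraMap F L)) = s ≫ T.hom := Spec.map_preimage _
  haveI : Algebra.IsAlgebraic F Ω := Algebra.IsAlgebraic.tower_top (K := k) F
  let φ : Spec (CommRingCat.of L) ⟶ Spec (CommRingCat.of Ω) :=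
    Spec.map (CommRingCat.ofHom (IsAlgClosed.lift (R := F) (S := Ω) (M := L)).toRingHom)
  have hφ : φ ≫ iF = s ≫ T.hom := by
    rw [← hsT, ← Spec.map_comp]
    exact congrArg Spec.map (CommRingCat.hom_ext (RingHom.ext fun z => (IsAlgClosed.lift (R := F) (S := Ω) (M := L)).commutes z))
  let TS : Over (Spec (CommRingCat.of Ω)) := Over.mk φ
  let TL : Over (Spec (CommRingCat.of F)) := Over.mk (φ ≫ iF)
  let gS : TL ⟶ T := Over.homMk s hφ.symm
  have hsq : IsPullback (pullback.fst fS φ ≫ m) (pullback.snd fS φ) fF (φ ≫ iF) :=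
    (IsPullback.of_hasPullback fS φ).paste_horiz sqm
  let ψ : PicF.XT fS TS ⟶ PicF.XT fF TL := hsq.isoPullback.hom
  have hψ1 : ψ ≫ pullback.fst fF TL.hom = pullback.fst fS TS.hom ≫ m := hsq.isoPullback_hom_fst
  have hψ2 : ψ ≫ PicF.XTproj fF TL = PicF.XTproj fS TS := hsq.isoPullback_hom_snd
  haveI : IsIso ψ := inferInstanceAs (IsIso hsq.isoPullback.hom)
  haveI : IsIso (𝟙 (Spec (CommRingCat.of L))) := ⟨𝟙 _, Category.id_comp _, Category.id_comp _⟩
  have sqψ : IsPullback ψ (PicF.XTproj fS TS) (PicF.XTproj fF TL) (𝟙 (Spec (CommRingCat.of L))) :=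
    IsPullback.of_horiz_isIso ⟨by rw [hψ2]; exact (Category.comp_id _).symm⟩
  let cS : PicLoc.PicSet (PicF.XT fS TS) := pc ψ (pc (PicF.XTmap fF gS) c')
  have hinv : ∀ (y : PicLoc.PicSet (PicF.XT fF T)) (z : TS.left),
      PicTan20.degCl fS TS z (pc ψ (pc (PicF.XTmap fF gS) y)).1 = PicTan20.degCl fF T t y.1 ∧
      h1Cl fS TS z (pc ψ (pc (PicF.XTmap fF gS) y)).1 = h1Cl fF T t y.1 := fun y z => by
    have h := fibre_inv fF fS sqψ z (pc (PicF.XTmap fF gS) y).2
    refine ⟨h.1.trans ((PicTan20.degCl_pull fF gS _ y.2).trans ?_), h.2.trans ((h1Cl_pull fF gS _ y.2).trans ?_)⟩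
    · exact congrArg (fun p => PicTan20.degCl fF T p y.1) (hs _)
    · exact congrArg (fun p => h1Cl fF T p y.1) (hs _)
  have hcS : pc (PicF.secT fS σS hσS TS) cS = 1 ∧ ∀ z, PicTan20.degCl fS TS z cS.1 = 0 :=
    ⟨eq_one_spec _, fun z => (hinv c' z).1.trans hc'⟩
  let q₀ := (ptsEquiv hu hdS TS).symm ⟨cS, hcS⟩
  have hq₀ : toPic (rigMap q₀ uz) = cS := by
    have h := congrArg Subtype.val ((ptsEquiv hu hdS TS).apply_symm_apply ⟨cS, hcS⟩)
    rw [← rigMap_comp]
    exact h
  obtain ⟨q, hqW, hq⟩ : ∃ q ∈ W,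
      q₀.left (IsLocalRing.closedPoint L) ∈ goodOpen fS hdS σS hσS (g := Curv2.genus Ω (pullback f ps)) rfl uz (w q) := by
    simpa using hW (Set.mem_univ (q₀.left (IsLocalRing.closedPoint L)))
  obtain ⟨hd1, hd2⟩ := (mem_goodOpen_map fS hdS σS hσS rfl q₀ uz (w q) (IsLocalRing.closedPoint L)).1 hq
  -- the points of the word are defined over `F`
  have hpts : ∀ x ∈ (w q).2, ∃ y : {y : Spec (CommRingCat.of F) ⟶ pullback f pF // y ≫ fF = 𝟙 _},
      x.1 ≫ m = iF ≫ y.1 := by
    intro x hx
    obtain ⟨y, hy1, hy2⟩ := hF _ (List.mem_flatMap.2 ⟨q, Finset.mem_toList.2 hqW,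
      List.mem_map.2 ⟨x, hx, rfl⟩⟩)
    refine ⟨⟨pullback.lift y (𝟙 _) (by rw [hy2, Category.id_comp]), pullback.lift_snd _ _ _⟩, ?_⟩
    apply pullback.hom_ext
    · rw [Category.assoc, hm1, Category.assoc, pullback.lift_fst]
      exact hy1.symm
    · rw [Category.assoc, show m ≫ pullback.snd f pF = fS ≫ iF from hm2, ← Category.assoc, x.2,
        Category.id_comp, Category.assoc, pullback.lift_snd, Category.comp_id]
  haveI : Nonempty {y : Spec (CommRingCat.of F) ⟶ pullback f pF // y ≫ fF = 𝟙 _} := ⟨⟨σF, hσF⟩⟩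
  choose! y hy using hpts
  let aF : Word fF := ((w q).1, (w q).2.map y)
  have hσSm : σS ≫ m = iF ≫ σF := by
    apply pullback.hom_ext
    · rw [Category.assoc, hm1, Category.assoc]
      simp only [σS, σF, bcSec, pullback.lift_fst]
      rw [← Category.assoc, hiF]
    · rw [Category.assoc, show m ≫ pullback.snd f pF = fS ≫ iF from hm2, ← Category.assoc, hσS,
        Category.id_comp, Category.assoc, show σF ≫ pullback.snd f pF = 𝟙 _ from hσF, Category.comp_id]
  have hword : pc m (wordOf fF hdF σF hσF aF) = wordOf fS hdS σS hσS (w q) := by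
    simp only [wordOf, wordCls, aF, map_mul, map_pow, map_inv, map_list_prod, List.map_map]
    rw [pc_ptCls sqm hdF hdS hσF hσS hσSm]
    congr 2
    refine List.map_congr_left fun x hx => ?_
    exact pc_ptCls sqm hdF hdS (y x).2 x.2 (hy x hx)
  have htr : pc ψ (pc (PicF.XTmap fF gS) (trCls fF hdF σF hσF T aF)) = trCls fS hdS σS hσS TS (w q) := by
    rw [pc_trCls, trCls, trCls, pc_comp ψ _ hψ1, ← pc_comp (pullback.fst fS TS.hom) m rfl, hword]
  refine ⟨Word.append fF a₀ aF, ?_⟩
  rw [trCls_append, ← mul_assoc]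
  have hmul : pc ψ (pc (PicF.XTmap fF gS) (c' * trCls fF hdF σF hσF T aF)) =
      toPic (shift fS hdS σS hσS (rigMap q₀ uz) (w q)) := by
    rw [map_mul, map_mul, htr]
    show cS * _ = toPic (rigMap q₀ uz) * _
    rw [hq₀]
  have hz := hinv (c' * trCls fF hdF σF hσF T aF) (IsLocalRing.closedPoint L)
  rw [hmul] at hz
  exact ⟨(hz.1.symm.trans hd1).trans hgen, hz.2.symm.trans hd2⟩

end Groth.Agent.PicRep20
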