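import Groth.Agent.Lib.PicRep20.Pic

/-!
# Change of the base of the Picard functor
-/

set_option autoImplicit false
set_option linter.style.haveILetI false
set_option linter.unusedSectionVars false
set_option maxHeartbeats 2000000
set_option backward.isDefEq.respectTransparency false
set_option backward.isDefEq.respectTransparency.types false

universe u

open CategoryTheory CategoryTheory.Limits AlgebraicGeometry

noncomputable section

namespace Groth.Agent.PicRep20

open Groth.Agent.Abel10 (pc pc_comp pc_id)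

noncomputable local instance instLawBC (Y : Scheme.{u}) : PicGrp.Law Y := M2.law Y

section General

variable {C S C' S' : Scheme.{u}} (f : C ⟶ S) (f' : C' ⟶ S') [IsProper f]
  {T : Over S} {T' : Over S'} {φ : PicF.XT f' T' ⟶ PicF.XT f T} {gl : T'.left ⟶ T.left}
  (sq : IsPullback φ (PicF.XTproj f' T') (PicF.XTproj f T) gl) (t : T'.left)

include sq in
/-- The fibres along a cartesian square of base changes. -/
theorem exists_fibre_square :
    ∃ F : (FGA.fibreAt f' T' t).left ⟶ (FGA.fibreAt f T (gl t)).left,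
      F ≫ pullback.fst (PicF.XTproj f T) (T.left.fromSpecResidueField (gl t)) =
        pullback.fst (PicF.XTproj f' T') (T'.left.fromSpecResidueField t) ≫ φ ∧
      IsPullback F (pullback.snd (PicF.XTproj f' T') (T'.left.fromSpecResidueField t))
        (pullback.snd (PicF.XTproj f T) (T.left.fromSpecResidueField (gl t)))
        (Spec.map (CommRingCat.ofHom (gl.residueFieldMap t).hom)) := by
  let a := pullback.fst (PicF.XTproj f' T') (T'.left.fromSpecResidueField t)
  let b := pullback.snd (PicF.XTproj f' T') (T'.left.fromSpecResidueField t)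
  have hout : IsPullback (a ≫ φ) b (PicF.XTproj f T)
      (Spec.map (gl.residueFieldMap t) ≫ T.left.fromSpecResidueField (gl t)) := by
    rw [Scheme.Hom.SpecMap_residueFieldMap_fromSpecResidueField]
    exact (IsPullback.of_hasPullback (PicF.XTproj f' T') (T'.left.fromSpecResidueField t)).paste_horiz sq
  let F : (FGA.fibreAt f' T' t).left ⟶ (FGA.fibreAt f T (gl t)).left :=
    pullback.lift (a ≫ φ) (b ≫ Spec.map (gl.residueFieldMap t)) (by rw [Category.assoc b]; exact hout.w)
  have hF : F ≫ pullback.fst (PicF.XTproj f T) (T.left.fromSpecResidueField (gl t)) = a ≫ φ :=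
    pullback.lift_fst _ _ _
  refine ⟨F, hF, IsPullback.of_right (h₁₂ := pullback.fst (PicF.XTproj f T) (T.left.fromSpecResidueField (gl t)))
    (v₁₃ := PicF.XTproj f T) (h₂₂ := T.left.fromSpecResidueField (gl t)) ?_ (pullback.lift_snd _ _ _)
    (IsPullback.of_hasPullback (PicF.XTproj f T) (T.left.fromSpecResidueField (gl t)))⟩
  rw [hF]
  exact hout

include sq in
/-- Degree and first cohomology of a class along a cartesian square of base changes. -/
theorem fibre_inv {c : PicF.Cl (PicF.XT f T)} (hc : PicF.IsInvertibleCl c) :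
    PicTan20.degCl f' T' t (PicF.pullCl φ c) = PicTan20.degCl f T (gl t) c ∧
      h1Cl f' T' t (PicF.pullCl φ c) = h1Cl f T (gl t) c := by
  obtain ⟨L, rfl, hL⟩ := hc
  obtain ⟨F, hF, hpb⟩ := exists_fibre_square f f' sq t
  let b := pullback.snd (PicF.XTproj f' T') (T'.left.fromSpecResidueField t)
  let a := pullback.fst (PicF.XTproj f' T') (T'.left.fromSpecResidueField t)
  let a' := pullback.fst (PicF.XTproj f T) (T.left.fromSpecResidueField (gl t))
  let b' := pullback.snd (PicF.XTproj f T) (T.left.fromSpecResidueField (gl t))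
  letI : (FGA.fibreAt f' T' t).left.Over (Spec (CommRingCat.of (T'.left.residueField t))) := ⟨b⟩
  letI : (FGA.fibreAt f T (gl t)).left.Over (Spec (CommRingCat.of (T.left.residueField (gl t)))) := ⟨b'⟩
  haveI : IsProper b' := MorphismProperty.pullback_snd _ _ inferInstance
  haveI : CompactSpace (FGA.fibreAt f T (gl t)).left := QuasiCompact.compactSpace_of_compactSpace b'
  haveI : QuasiSeparatedSpace (FGA.fibreAt f T (gl t)).left := quasiSeparatedSpace_of_quasiSeparated b'
  have hq := M1.isQCoh_pullback a' (Twist.isQCoh_of_isInvertible hL)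
  let i : FGA.restrFibre f' T' t ((Scheme.Modules.pullback φ).obj L) ≅
      (Scheme.Modules.pullback F).obj (FGA.restrFibre f T (gl t) L) :=
    (Scheme.Modules.pullbackComp a φ).app L ≪≫ (Scheme.Modules.pullbackCongr hF.symm).app L ≪≫
      ((Scheme.Modules.pullbackComp F a').app L).symm
  rw [show PicF.pullCl φ (PicF.cl L) = PicF.cl ((Scheme.Modules.pullback φ).obj L) from rfl,
    PicTan20.degCl_cl, PicTan20.degCl_cl, h1Cl_cl, h1Cl_cl]
  refine ⟨congrArg₂ (fun x y : ℤ => x - y) ((PicTan20.eulerCharLE_congr i 1).trans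
      (PicTan20.eulerCharLE_pullback (gl.residueFieldMap t).hom hpb hq 1)) ?_,
    ((CurveCoh17.hequiv (T'.left.residueField t) (X := (FGA.fibreAt f' T' t).left) i 1).finrank_eq).trans
      (PicTan20.finrank_HH_pullback_mod (gl.residueFieldMap t).hom hpb hq 1)⟩
  exact (PicTan20.eulerCharLE_congr (Twist.pullbackUnitIso F).symm 1).trans
    (PicTan20.eulerCharLE_pullback (gl.residueFieldMap t).hom hpb
      (Snapper.isCoh_of_isInvertible (PicLoc.isInvertible_structureModule _)).1 1)

end General

variable {C S S' : Scheme.{u}} (f : C ⟶ S) (p : S' ⟶ S)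

/-- A scheme over `S'` as a scheme over `S`. -/
abbrev bcT (T : Over S') : Over S := Over.mk (T.hom ≫ p)

/-- The base changes of a morphism over a scheme over `S'`. -/
def bcXT (T : Over S') : PicF.XT (pullback.snd f p) T ≅ PicF.XT f (bcT p T) :=
  pullbackLeftPullbackSndIso f p T.hom

/-- A morphism over `S'` as a morphism over `S`. -/
abbrev bcMap {T T' : Over S'} (g : T' ⟶ T) : bcT p T' ⟶ bcT p T :=
  Over.homMk g.left (show g.left ≫ T.hom ≫ p = T'.hom ≫ p by rw [← Category.assoc, Over.w g])

@[reassoc]
theorem bcXT_fst (T : Over S') :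
    (bcXT f p T).hom ≫ pullback.fst f (bcT p T).hom =
      pullback.fst (pullback.snd f p) T.hom ≫ pullback.fst f p :=
  pullbackLeftPullbackSndIso_hom_fst _ _ _

@[reassoc]
theorem bcXT_proj (T : Over S') :
    (bcXT f p T).hom ≫ PicF.XTproj f (bcT p T) = PicF.XTproj (pullback.snd f p) T :=
  pullbackLeftPullbackSndIso_hom_snd _ _ _

theorem bcXT_natural {T T' : Over S'} (g : T' ⟶ T) :
    PicF.XTmap (pullback.snd f p) g ≫ (bcXT f p T).hom = (bcXT f p T').hom ≫ PicF.XTmap f (bcMap p g) := by
  refine pullback.hom_ext (f := f) (g := (bcT p T).hom) ?_ ?_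
  · exact (Category.assoc _ _ _).trans ((congrArg (PicF.XTmap (pullback.snd f p) g ≫ ·) (bcXT_fst f p T)).trans
      (((Category.assoc _ _ _).symm.trans (congrArg (· ≫ pullback.fst f p) (HilbBC25.XTmap_fst (pullback.snd f p) g))).trans
        ((bcXT_fst f p T').symm.trans ((congrArg ((bcXT f p T').hom ≫ ·) (HilbBC25.XTmap_fst f (bcMap p g)).symm).trans
          (Category.assoc _ _ _).symm))))
  · exact (Category.assoc _ _ _).trans ((congrArg (PicF.XTmap (pullback.snd f p) g ≫ ·) (bcXT_proj f p T)).trans
      ((RigDesc22.XTmap_proj (pullback.snd f p) g).trans ((congrArg (· ≫ g.left) (bcXT_proj f p T').symm).trans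
        ((Category.assoc _ _ _).trans ((congrArg ((bcXT f p T').hom ≫ ·) (RigDesc22.XTmap_proj f (bcMap p g)).symm).trans
          (Category.assoc _ _ _).symm)))))

theorem isPullback_bcXT (T : Over S') :
    IsPullback (bcXT f p T).hom (PicF.XTproj (pullback.snd f p) T) (PicF.XTproj f (bcT p T)) (𝟙 T.left) :=
  IsPullback.of_horiz_isIso ⟨by rw [Category.comp_id]; exact bcXT_proj f p T⟩

variable (σ : S ⟶ C) (hσ : σ ≫ f = 𝟙 S)

/-- The base change of a section. -/
def bcSec : S' ⟶ pullback f p := pullback.lift (p ≫ σ) (𝟙 S') (by rw [Category.assoc, hσ, Category.comp_id, Category.id_comp])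

theorem bcSec_snd : bcSec f p σ hσ ≫ pullback.snd f p = 𝟙 S' := pullback.lift_snd _ _ _

theorem secT_bcXT (T : Over S') :
    PicF.secT (pullback.snd f p) (bcSec f p σ hσ) (bcSec_snd f p σ hσ) T ≫ (bcXT f p T).hom =
      PicF.secT f σ hσ (bcT p T) := by
  let s := PicF.secT (pullback.snd f p) (bcSec f p σ hσ) (bcSec_snd f p σ hσ) T
  refine pullback.hom_ext (f := f) (g := (bcT p T).hom) ?_ ?_
  · refine (Category.assoc _ _ _).trans ((congrArg (s ≫ ·) (bcXT_fst f p T)).trans ((Category.assoc _ _ _).symm.trans ?_))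
    refine Eq.trans ?_ (pullback.lift_fst _ _ _).symm
    refine (congrArg (· ≫ pullback.fst f p) (pullback.lift_fst _ _ _)).trans ?_
    exact (Category.assoc _ _ _).trans ((congrArg (T.hom ≫ ·) (pullback.lift_fst _ _ _)).trans
      (Category.assoc _ _ _).symm)
  · exact (Category.assoc _ _ _).trans ((congrArg (s ≫ ·) (bcXT_proj f p T)).trans
      ((RigDesc22.secT_proj _ _ (bcSec_snd f p σ hσ) T).trans (RigDesc22.secT_proj f σ hσ (bcT p T)).symm))

end Groth.Agent.PicRep20
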