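import Groth.Agent.Lib.PicRep20.Fibre
import Groth.Agent.Lib.PicDesc21.Classes
import Groth.Agent.Lib.RigDesc22.Classes

/-!
# Classes from the base of a family
-/

set_option autoImplicit false
set_option linter.style.haveILetI false
set_option linter.unusedSectionVars false
set_option maxHeartbeats 1000000
set_option backward.isDefEq.respectTransparency false
set_option backward.isDefEq.respectTransparency.types false

universe u

open CategoryTheory CategoryTheory.Limits AlgebraicGeometry TopologicalSpace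

noncomputable section

namespace Groth.Agent.PicRep20

open Groth.Agent.PicDesc21 (pullCl_pullCl pullCl_mulCl pullCl_structure pullCl_trivial isInvertibleCl_pull mulCl_one)

variable {Y : Scheme.{u}}

/-- An invertible class is trivial near every point. -/
theorem exists_open_trivial {n : PicF.Cl Y} (hn : PicF.IsInvertibleCl n) (y : Y) :
    ∃ U : Y.Opens, y ∈ U ∧ PicF.IsTrivialCl (PicF.pullCl U.ι n) := by
  obtain ⟨N, rfl, hN⟩ := hn
  obtain ⟨U, hyU, ⟨e⟩⟩ := hN y
  exact ⟨U, hyU, Quot.sound ⟨((Scheme.Modules.restrictFunctorIsoPullback U.ι).app N).symm ≪≫ e⟩⟩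

/-- Cancellation against an invertible class. -/
theorem eq_of_mulCl_eq_one {a b c : PicF.Cl Y} (ha : PicGrp.mulCl a c = PicF.cl (Coh.structureModule Y))
    (hb : PicGrp.mulCl b c = PicF.cl (Coh.structureModule Y)) : a = b := by
  rw [← mulCl_one a, ← hb, M2.mulCl_comm b, ← M2.mulCl_assoc, ha, M2.one_mulCl]

variable {X S : Scheme.{u}} (f : X ⟶ S)

/-- Twisting by a class of the base which is trivial near a point. -/
theorem pull_twist {T T' : Over S} (g : T' ⟶ T) (c : PicF.Cl (PicF.XT f T)) {n : PicF.Cl T.left}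
    (hn : PicF.IsTrivialCl (PicF.pullCl g.left n)) :
    PicF.pullCl (PicF.XTmap f g) (PicGrp.mulCl c (PicF.pullCl (PicF.XTproj f T) n)) =
      PicF.pullCl (PicF.XTmap f g) c := by
  rw [pullCl_mulCl, pullCl_pullCl, RigDesc22.XTmap_proj, ← pullCl_pullCl, hn, pullCl_structure, mulCl_one]

/-- A twist by a class of the base is invisible on the fibres. -/
theorem fibre_twist [IsProper f] {T : Over S} (t : T.left) {c : PicF.Cl (PicF.XT f T)} {n : PicF.Cl T.left}
    (hc : PicF.IsInvertibleCl c) (hn : PicF.IsInvertibleCl n) :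
    PicTan20.degCl f T t (PicGrp.mulCl c (PicF.pullCl (PicF.XTproj f T) n)) = PicTan20.degCl f T t c ∧
      h1Cl f T t (PicGrp.mulCl c (PicF.pullCl (PicF.XTproj f T) n)) = h1Cl f T t c := by
  obtain ⟨U, htU, hU⟩ := exists_open_trivial hn t
  let g : AbDual.ovr T U.ι ⟶ T := AbDual.ovrHom T U.ι
  have hcn := M2.isInvertibleCl_mulCl hc (isInvertibleCl_pull (PicF.XTproj f T) hn)
  have he := pull_twist f g c hU
  have h1 := congrArg (PicTan20.degCl f (AbDual.ovr T U.ι) ⟨t, htU⟩) he
  rw [PicTan20.degCl_pull f g _ hcn, PicTan20.degCl_pull f g _ hc] at h1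
  have h2 := congrArg (h1Cl f (AbDual.ovr T U.ι) ⟨t, htU⟩) he
  rw [h1Cl_pull f g _ hcn, h1Cl_pull f g _ hc] at h2
  exact ⟨h1, h2⟩

/-- All fibres have degree `d` and no first cohomology. -/
def Good (T : Over S) (d : ℤ) (c : PicF.Cl (PicF.XT f T)) : Prop :=
  ∀ t, PicTan20.degCl f T t c = d ∧ h1Cl f T t c = 0

theorem Good.pull [IsProper f] {T T' : Over S} (g : T' ⟶ T) {d : ℤ} {c : PicF.Cl (PicF.XT f T)}
    (hc : PicF.IsInvertibleCl c) (h : Good f T d c) : Good f T' d (PicF.pullCl (PicF.XTmap f g) c) := fun t => by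
  rw [PicTan20.degCl_pull f g t hc, h1Cl_pull f g t hc]
  exact h _

variable (σ : S ⟶ X) (hσ : σ ≫ f = 𝟙 S)

/-- The rigidification of a twist recovers the class of the base. -/
theorem sec_twist {T : Over S} (c : PicF.Cl (PicF.XT f T)) (n : PicF.Cl T.left)
    (hc : PicF.IsTrivialCl (PicF.pullCl (PicF.secT f σ hσ T) c)) :
    PicF.pullCl (PicF.secT f σ hσ T) (PicGrp.mulCl c (PicF.pullCl (PicF.XTproj f T) n)) = n := by
  rw [pullCl_mulCl, hc, M2.one_mulCl, pullCl_pullCl, RigDesc22.secT_proj, PicLoc.pullCl_id]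

end Groth.Agent.PicRep20
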