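import Groth.Agent.Lib.PicRep20.Univ

/-!
# The chart of rigidified classes of degree `g` without first cohomology
-/

set_option autoImplicit false
set_option linter.style.haveILetI false
set_option linter.unusedSectionVars false
set_option maxHeartbeats 2000000
set_option backward.isDefEq.respectTransparency false
set_option backward.isDefEq.respectTransparency.types false

universe u

open CategoryTheory CategoryTheory.Limits AlgebraicGeometry TopologicalSpace

noncomputable section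

namespace Groth.Agent.PicRep20

open Groth.Agent.Abel10
open Groth.Agent.PicDesc21 (pullCl_pullCl pullCl_mulCl pullCl_structure pullCl_trivial isInvertibleCl_pull mulCl_one mem_fppf_iff)

variable {k : Type u} [Field k] {X : Scheme.{u}} (f : X ⟶ Spec (CommRingCat.of k)) [IsProper f] [Smooth f]
  [GeometricallyConnected f] [IsIntegral X] [GeometricallyIrreducible f] (hdim : topologicalKrullDim X = 1) {g : ℕ}
  (hg : letI : X.Over (Spec (CommRingCat.of k)) := ⟨f⟩; Curv2.genus k X = g)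
  (σ : Spec (CommRingCat.of k) ⟶ X) (hσ : σ ≫ f = 𝟙 _)

theorem bijective_appTop_proj (T : Scheme.{u}) (τ : T ⟶ Spec (CommRingCat.of k)) :
    Function.Bijective (pullback.snd f τ).appTop :=
  haveI : IsProper (Over.mk f).hom := ‹IsProper f›
  haveI : Smooth (Over.mk f).hom := ‹Smooth f›
  haveI : GeometricallyConnected (Over.mk f).hom := ‹GeometricallyConnected f›
  AbDual21.bijective_appTop_snd (Over.mk f) T τ

theorem fppf_of_cover {T : Scheme.{u}} {ι : Type u} (U : ι → T.Opens) (hU : ∀ t, ∃ i, t ∈ U i) :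
    Presieve.ofArrows (fun i => (U i).toScheme) (fun i => (U i).ι) ∈ Scheme.fppfPrecoverage T :=
  mem_fppf_iff.2 ⟨fun t => by
    obtain ⟨i, hi⟩ := hU t
    exact ⟨i, ⟨t, hi⟩, rfl⟩, fun i => ⟨inferInstance, inferInstance⟩⟩

include hdim hg in
/-- Rigidified classes of degree `g` without first cohomology are represented. -/
theorem exists_chart : ∃ (V : Over (Spec (CommRingCat.of k))) (ξ : PicF.Cl (PicF.XT f V)),
    LocallyOfFiniteType V.hom ∧ PicF.IsInvertibleCl ξ ∧ PicF.IsTrivialCl (PicF.pullCl (PicF.secT f σ hσ V) ξ) ∧ Good f V g ξ ∧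
      ∀ (T : Over (Spec (CommRingCat.of k))) (c : PicF.Cl (PicF.XT f T)), PicF.IsInvertibleCl c →
        PicF.IsTrivialCl (PicF.pullCl (PicF.secT f σ hσ T) c) → Good f T g c →
          ∃! h : T ⟶ V, PicF.pullCl (PicF.XTmap f h) ξ = c := by
  obtain ⟨H, Z, hZ, hHp, -⟩ := S1170.result k X f ⟨‹_›, ‹_›, ‹_›, hdim⟩ g
  let pH := PicF.XTproj f H
  haveI := smoothOfRelativeDimension_proj f hdim H
  have hE : BlowUp.IsEffCartierIdeal Z.1 := ((S1184.result pH Z.1).2 Z.2.1).1
  obtain ⟨L, hL, ⟨eL⟩⟩ := M2.exists_inverse (M2.isInvertible_idealMod _ hE)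
  obtain ⟨s, hs⟩ := exists_locEq hE hL (M2.tensorComm _ _ ≪≫ eL)
  obtain ⟨n₀, hn₀, hrig⟩ := RigDesc22.exists_normalise f σ hσ (T := H) ⟨L, rfl, hL⟩
  let ξH := PicGrp.mulCl (PicF.cl L) (PicF.pullCl pH n₀)
  have hξH : PicF.IsInvertibleCl ξH := M2.isInvertibleCl_mulCl ⟨L, rfl, hL⟩ (isInvertibleCl_pull _ hn₀)
  let O : H.left.Opens := ⟨_, isOpen_good f (fun t => (fiber_dim f hdim t).le) H hξH g⟩
  let V : Over (Spec (CommRingCat.of k)) := AbDual.ovr H O.ι
  let j : V ⟶ H := AbDual.ovrHom H O.ι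
  let ξ := PicF.pullCl (PicF.XTmap f j) ξH
  have hξ : PicF.IsInvertibleCl ξ := isInvertibleCl_pull _ hξH
  have hξrig := RigDesc22.trivial_pull f σ hσ j hrig
  have hξgood : Good f V g ξ := fun v => by
    rw [PicTan20.degCl_pull f j v hξH, h1Cl_pull f j v hξH]
    exact v.2
  haveI := hHp
  refine ⟨V, ξ, inferInstanceAs (LocallyOfFiniteType (O.ι ≫ H.hom)), hξ, hξrig, hξgood, fun T c hc hcrig hcgood => ?_⟩
  have huniq : ∀ {T : Over (Spec (CommRingCat.of k))} {h h' : T ⟶ V},
      PicF.pullCl (PicF.XTmap f h) ξ = PicF.pullCl (PicF.XTmap f h') ξ → h = h' := by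
    intro T h h' e
    simp only [ξ] at e
    rw [RigDesc22.pullCl_XTmap, RigDesc22.pullCl_XTmap] at e
    refine Over.OverMorphism.ext ((cancel_mono O.ι).1 ?_)
    show (h ≫ j).left = (h' ≫ j).left
    choose U hUt hUa using fun t : T.left => exists_open_trivial (isInvertibleCl_pull (h ≫ j).left hn₀) t
    choose U' hU't hU'b using fun t : T.left => exists_open_trivial (isInvertibleCl_pull (h' ≫ j).left hn₀) t
    refine Scheme.Cover.hom_ext (T.left.openCoverOfIsOpenCover (fun t => U t ⊓ U' t)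
      (top_le_iff.1 fun z _ => Opens.mem_iSup.2 ⟨z, hUt z, hU't z⟩)) _ _ fun t => ?_
    let W := U t ⊓ U' t
    let w : AbDual.ovr T W.ι ⟶ T := AbDual.ovrHom T W.ι
    have htriv : ∀ (a : T ⟶ H) (U₀ : T.left.Opens), W ≤ U₀ →
        PicF.IsTrivialCl (PicF.pullCl U₀.ι (PicF.pullCl a.left n₀)) →
        PicF.IsTrivialCl (PicF.pullCl (w ≫ a).left n₀) := fun a U₀ hW h0 => by
      have h1 := pullCl_trivial (T.left.homOfLE hW) h0
      rw [pullCl_pullCl, pullCl_pullCl, Category.assoc, Scheme.homOfLE_ι_assoc] at h1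
      exact h1
    have hd : PicF.pullCl (PicF.XTmap f (w ≫ (h ≫ j))) ξH = PicF.pullCl (PicF.XTmap f (w ≫ (h' ≫ j))) ξH := by
      rw [← RigDesc22.pullCl_XTmap f w (h ≫ j), ← RigDesc22.pullCl_XTmap f w (h' ≫ j), e]
    have hgW : Good f _ g (PicF.pullCl (PicF.XTmap f (w ≫ (h' ≫ j))) ξH) := by
      have := Good.pull f (w ≫ h') hξ hξgood
      simp only [ξ] at this
      rwa [RigDesc22.pullCl_XTmap, Category.assoc] at this
    rw [pull_twist f _ _ (htriv _ (U t) inf_le_left (hUa t)),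
      pull_twist f _ _ (htriv _ (U' t) inf_le_right (hU'b t))] at hd
    rw [pull_twist f _ _ (htriv _ (U' t) inf_le_right (hU'b t))] at hgW
    exact congrArg CommaMorphism.left (eq_of_pull_eq f hdim hg Z hL hs hZ hd hgW)
  have hloc : ∀ t : T.left, ∃ (U : T.left.Opens) (h : AbDual.ovr T U.ι ⟶ V), t ∈ U ∧
      PicF.pullCl (PicF.XTmap f h) ξ = PicF.pullCl (PicF.XTmap f (AbDual.ovrHom T U.ι)) c := fun t => by
    obtain ⟨U, a, htU, ha⟩ := exists_local f hdim hg Z hL hs hZ hc hcgood t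
    let T' := AbDual.ovr T U.ι
    let c' := PicF.pullCl (PicF.XTmap f (AbDual.ovrHom T U.ι)) c
    have hc' : PicF.IsTrivialCl (PicF.pullCl (PicF.secT f σ hσ T') c') :=
      RigDesc22.trivial_pull f σ hσ _ hcrig
    have e : PicF.pullCl (PicF.XTmap f a) ξH = c' := by
      have h1 : PicF.pullCl (PicF.XTmap f a) ξH = PicGrp.mulCl c' (PicF.pullCl (PicF.XTproj f T') (PicF.pullCl a.left n₀)) := by
        simp only [ξH]
        rw [pullCl_mulCl, ha, pullCl_pullCl, pullCl_pullCl, RigDesc22.XTmap_proj]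
      have h2 := RigDesc22.trivial_pull f σ hσ a hrig
      rw [show PicF.pullCl (PicF.XTmap f a) (PicGrp.mulCl (PicF.cl L) (PicF.pullCl (PicF.XTproj f H) n₀)) =
        PicF.pullCl (PicF.XTmap f a) ξH from rfl, h1, PicF.IsTrivialCl, sec_twist f σ hσ c' _ hc'] at h2
      rw [h1, h2, pullCl_structure, mulCl_one]
    have hmem : ∀ y, a.left y ∈ O := fun y => by
      have h := Good.pull f (AbDual.ovrHom T U.ι) hc hcgood y
      change PicTan20.degCl f T' y c' = _ ∧ h1Cl f T' y c' = 0 at h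
      rw [← e, PicTan20.degCl_pull f a y hξH, h1Cl_pull f a y hξH] at h
      exact h
    let l := IsOpenImmersion.lift O.ι a.left (by rw [Scheme.Opens.range_ι]; rintro _ ⟨y, rfl⟩; exact hmem y)
    have hl : l ≫ O.ι = a.left := IsOpenImmersion.lift_fac _ _ _
    refine ⟨U, Over.homMk l (show l ≫ O.ι ≫ H.hom = T'.hom by rw [reassoc_of% hl]; exact Over.w a), htU, ?_⟩
    simp only [ξ]
    rw [RigDesc22.pullCl_XTmap]
    refine Eq.trans ?_ e
    exact congrArg (fun b => PicF.pullCl (PicF.XTmap f b) ξH) (Over.OverMorphism.ext hl)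
  choose U h hUt hh using hloc
  let 𝒰 := T.left.openCoverOfIsOpenCover U (top_le_iff.1 fun z _ => Opens.mem_iSup.2 ⟨z, hUt z⟩)
  have hover : ∀ t t' : T.left, pullback.fst (U t).ι (U t').ι ≫ (h t).left =
      pullback.snd (U t).ι (U t').ι ≫ (h t').left := fun t t' => by
    let W := AbDual.ovr T (pullback.fst (U t).ι (U t').ι ≫ (U t).ι)
    let a : W ⟶ AbDual.ovr T (U t).ι := Over.homMk (pullback.fst (U t).ι (U t').ι) (Category.assoc _ _ _).symm
    let b : W ⟶ AbDual.ovr T (U t').ι := Over.homMk (pullback.snd (U t).ι (U t').ι)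
      (show pullback.snd (U t).ι (U t').ι ≫ (U t').ι ≫ T.hom = (pullback.fst (U t).ι (U t').ι ≫ (U t).ι) ≫ T.hom by
        rw [← Category.assoc, ← pullback.condition])
    have hab : a ≫ AbDual.ovrHom T (U t).ι = b ≫ AbDual.ovrHom T (U t').ι :=
      Over.OverMorphism.ext pullback.condition
    have h1 := huniq (h := a ≫ h t) (h' := b ≫ h t') (by
      rw [← RigDesc22.pullCl_XTmap, ← RigDesc22.pullCl_XTmap, hh, hh, RigDesc22.pullCl_XTmap,
        RigDesc22.pullCl_XTmap, hab])
    exact congrArg CommaMorphism.left h1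
  let G : T.left ⟶ V.left := 𝒰.glueMorphisms (fun t => (h t).left) hover
  have hG : ∀ t, (U t).ι ≫ G = (h t).left := fun t => 𝒰.ι_glueMorphisms _ _ t
  let G' : T ⟶ V := Over.homMk G (𝒰.hom_ext _ _ fun t => by
    show (U t).ι ≫ G ≫ V.hom = (U t).ι ≫ T.hom
    rw [reassoc_of% (hG t)]
    exact Over.w (h t))
  have hG' : PicF.pullCl (PicF.XTmap f G') ξ = c := by
    refine PicDesc21.cl_eq_of_local f (bijective_appTop_proj f) σ hσ (isInvertibleCl_pull _ hξ) hc
      ((RigDesc22.trivial_pull f σ hσ G' hξrig).trans hcrig.symm) (fppf_of_cover U fun t => ⟨t, hUt t⟩) ?_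
    rintro _ _ ⟨t⟩
    rw [RigDesc22.pullCl_XTmap, ← hh t]
    exact congrArg (fun b => PicF.pullCl (PicF.XTmap f b) ξ) (Over.OverMorphism.ext (hG t))
  exact ⟨G', hG', fun h' hh' => huniq (hh'.trans hG'.symm)⟩

end Groth.Agent.PicRep20
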