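import Groth.Agent.Lib.CurveTwist13.Main
import Groth.Agent.Lib.Abel10.CurvePts

/-!
# A twist by rational points has the degree of the genus and no first cohomology

This refines `CurveTwist13.exists_twist`: the twisting class is a word in the rational points, so that the
translations needed to cover the rigidified Picard functor form a small set.
-/

set_option autoImplicit false
set_option linter.style.haveILetI false
set_option linter.unusedSectionVars false
set_option maxHeartbeats 1000000
set_option backward.isDefEq.respectTransparency false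
set_option backward.isDefEq.respectTransparency.types false

universe u

open CategoryTheory CategoryTheory.Limits AlgebraicGeometry TopologicalSpace

noncomputable section

namespace Groth.Agent.PicRep20

open Groth.Agent.CurveCoh17 Groth.Agent.CurveTwist13

noncomputable local instance instLawCover (Y : Scheme.{u}) : PicGrp.Law Y := M2.law Y

variable {k : Type u} [Field k] {X : Scheme.{u}} [X.Over (Spec (CommRingCat.of k))]
  [IsProper (X ↘ Spec (CommRingCat.of k))] [Smooth (X ↘ Spec (CommRingCat.of k))] [IsIntegral X]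

variable (k X) in
/-- Rational points. -/
abbrev Pts : Type u := {x : Spec (CommRingCat.of k) ⟶ X // x ≫ (X ↘ Spec (CommRingCat.of k)) = 𝟙 _}

/-- Words in the rational points as classes. -/
def wordCls (hdim : topologicalKrullDim X = 1) (e : Pts k X) (a : ℕ × List (Pts k X)) : PicLoc.PicSet X :=
  (Abel10.ptCls hdim e.1 e.2)⁻¹ ^ a.1 * (a.2.map fun x => Abel10.ptCls hdim x.1 x.2).prod

variable {K : Type u} [Field K] [Algebra k K] {XK : Scheme.{u}} [XK.Over (Spec (CommRingCat.of K))]
  [IsProper (XK ↘ Spec (CommRingCat.of K))] [Smooth (XK ↘ Spec (CommRingCat.of K))] [IsIntegral XK]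
  {g : XK ⟶ X}
  (hpb : IsPullback g (XK ↘ Spec (CommRingCat.of K)) (X ↘ Spec (CommRingCat.of k))
    (Spec.map (CommRingCat.ofHom (algebraMap k K))))
  (hdim : topologicalKrullDim X = 1) (hdimK : topologicalKrullDim XK = 1)

include hpb hdim hdimK in
/-- The ideal of a rational point has degree `-1` upstairs and lowers `h⁰` where a section is nonzero. -/
theorem point_step (x : Pts k X) :
    Curv2.deg K XK ((Scheme.Modules.pullback g).obj (ClSub.idealMod x.1.ker)) 1 = -1 ∧
      ∀ (L : XK.Modules), PicF.IsInvertible L → ∀ z : Coh.HH XK L 0,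
        (∀ y : XK, g y = x.1 (IsLocalRing.closedPoint k) → Amp.Gen (Amp.gm L y (U := ⊤) trivial (hh0 L z))) →
        Module.finrank K (Coh.HH XK L 0) = Module.finrank K
          (Coh.HH XK (CohB1.tensorMod L ((Scheme.Modules.pullback g).obj (ClSub.idealMod x.1.ker))) 0) + 1 := by
  obtain ⟨σ, hσ⟩ := x
  let s := Spec.map (CommRingCat.ofHom (algebraMap k K))
  let σK : Spec (CommRingCat.of K) ⟶ XK := hpb.lift (s ≫ σ) (𝟙 _) (by
    rw [Category.assoc, hσ, Category.comp_id, Category.id_comp])
  have hσK : σK ≫ (XK ↘ Spec (CommRingCat.of K)) = 𝟙 _ := hpb.lift_snd _ _ _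
  have hσKg : σK ≫ g = s ≫ σ := hpb.lift_fst _ _ _
  obtain ⟨hQ, hkerK, hresK⟩ := ker_section σK hσK
  haveI := CurveCartier25.isClosedImmersion_section _ σ hσ
  have hcomap : σ.ker.comap g = σK.ker := CurveCartier25.comap_ker_section hpb σ σK hσ hσK hσKg
  obtain ⟨e⟩ := nonempty_pullback_idealMod_iso g (Abel10.isEffCartierIdeal_point hdim σ hσ)
    (by rw [hcomap]; exact Abel10.isEffCartierIdeal_point hdimK σK hσK)
  rw [hcomap] at e
  refine ⟨(deg_iso e).trans (Abel10.deg_point hdimK σK hσK), fun L hL z hz => ?_⟩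
  rw [hkerK] at e
  rw [(hequiv K (M2.tensorIso (Iso.refl L) e) 0).finrank_eq]
  refine finrank_twist_rational hdimK.le hL hQ hresK (hz _ ?_)
  rw [← Scheme.Hom.comp_apply, hσKg, Scheme.Hom.comp_apply]
  exact congrArg σ (Subsingleton.elim (α := Spec (CommRingCat.of k)) _ _)

include hpb hdim hdimK in
/-- Some word twists a given class to one of degree the genus without first cohomology. -/
theorem exists_word [IsSepClosed k] (e : Pts k X)
    (h0X : Module.finrank K (Coh.HH XK (Coh.structureModule XK) 0) = 1) (L : XK.Modules)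
    (hL : PicF.IsInvertible L) :
    ∃ (a : ℕ × List (Pts k X)) (L₀ : X.Modules) (h : PicF.IsInvertible L₀),
      PicGrp.cls L₀ h = wordCls hdim e a ∧
      Curv2.deg K XK (CohB1.tensorMod L ((Scheme.Modules.pullback g).obj L₀)) 1 = Curv2.genus K XK ∧
      Subsingleton (Coh.HH XK (CohB1.tensorMod L ((Scheme.Modules.pullback g).obj L₀)) 1) := by
  have hX := CurveAmple18.curveLike K XK hdimK.le
  haveI := hX.noetherian
  haveI : IsNoetherian X := (CurveAmple18.curveLike k X hdim.le).noetherian
  let F := fun L₀ : X.Modules => CohB1.tensorMod L ((Scheme.Modules.pullback g).obj L₀)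
  have hF : ∀ {L₀ : X.Modules}, PicF.IsInvertible L₀ → PicF.IsInvertible (F L₀) := fun h =>
    M2.isInvertible_tensor hL (PicLoc.isInvertible_pullback g h)
  have hFmul : ∀ L₀ J : X.Modules,
      Nonempty (F (CohB1.tensorMod L₀ J) ≅ CohB1.tensorMod (F L₀) ((Scheme.Modules.pullback g).obj J)) :=
    fun L₀ J => ⟨M2.tensorIso (Iso.refl L) (M2.pullTensorIso g L₀ J) ≪≫ (M2.tensorAssoc _ _ _).symm⟩
  let Word := fun (L₀ : X.Modules) (h : PicF.IsInvertible L₀) => ∃ a, PicGrp.cls L₀ h = wordCls hdim e a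
  -- twist down
  have down : ∀ n : ℕ, ∀ (L₀ : X.Modules) (h : PicF.IsInvertible L₀), Word L₀ h →
      Subsingleton (Coh.HH XK (F L₀) 1) → Curv2.deg K XK (F L₀) 1 = (Curv2.genus K XK : ℤ) + n →
      ∃ (a : ℕ × List (Pts k X)) (L₀ : X.Modules) (h : PicF.IsInvertible L₀),
        PicGrp.cls L₀ h = wordCls hdim e a ∧ Curv2.deg K XK (F L₀) 1 = Curv2.genus K XK ∧
          Subsingleton (Coh.HH XK (F L₀) 1) := by
    intro n
    induction n with
    | zero => exact fun L₀ h ⟨a, ha⟩ h1 hd => ⟨a, L₀, h, ha, by simpa using hd, h1⟩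
    | succ n ih =>
      intro L₀ h ⟨a, ha⟩ h1 hd
      have r1 := hX.rr (rkOne_of_invertible hdimK.le (hF h)).coh
      rw [Module.finrank_zero_of_subsingleton (M := Coh.HH XK (F L₀) 1), h0X, hd] at r1
      haveI := hX.fin _ (rkOne_of_invertible hdimK.le (hF h)).coh 0
      haveI : Nontrivial (Coh.HH XK (F L₀) 0) := by
        refine Module.finrank_pos_iff.1 (?_ : 0 < Module.finrank K _)
        omega
      obtain ⟨z, hz⟩ := exists_ne (0 : Coh.HH XK (F L₀) 0)
      let B : Set X := g '' {x | ¬ Amp.Gen (Amp.gm (F L₀) x (U := ⊤) trivial (hh0 (F L₀) z))}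
      have hBclosed : IsClosed (B \ {genericPoint X}) := by
        rw [← Set.biUnion_of_singleton (_ \ _)]
        exact (((finite_vanishing (k := K) hdimK.le (hF h) hz).image g).subset Set.sdiff_subset).isClosed_biUnion
          fun y hy => Curve17.isClosed_singleton hdim.le hy.2
      let U : X.Opens := ⟨(B \ {genericPoint X})ᶜ, hBclosed.isOpen_compl⟩
      obtain ⟨σ, hσ, hσU⟩ := exists_section_mem (k := k) U ⟨genericPoint X, fun hb => hb.2 rfl⟩
      obtain ⟨hP, -, -⟩ := ker_section σ hσ
      obtain ⟨hdeg, hdrop⟩ := point_step hpb hdim hdimK ⟨σ, hσ⟩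
      let J := ClSub.idealMod σ.ker
      have hJ : PicF.IsInvertible J := Abel10.isInvertible_point hdim σ hσ
      obtain ⟨i⟩ := hFmul L₀ J
      have e1 := hdrop (F L₀) (hF h) z fun x hx => by
        by_contra hcon
        exact hσU ⟨⟨x, hcon, hx⟩, (genericPoint_ne_of_isClosed hdim hP).symm⟩
      have hinv := M2.isInvertible_tensor h hJ
      have hword : Word (CohB1.tensorMod L₀ J) hinv := ⟨(a.1, ⟨σ, hσ⟩ :: a.2), by
        rw [← AlgEquiv22.cls_tensor h hJ, ha, wordCls, wordCls, List.map_cons, List.prod_cons,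
          show PicGrp.cls J hJ = Abel10.ptCls hdim σ hσ from rfl]
        ac_rfl⟩
      have hd' : Curv2.deg K XK (F (CohB1.tensorMod L₀ J)) 1 = (Curv2.genus K XK : ℤ) + n := by
        rw [deg_iso i, hX.deg_tensor_invertible (hF h) (PicLoc.isInvertible_pullback g hJ), hd, hdeg]
        push_cast
        ring
      have hc := (rkOne_of_invertible hdimK.le (hF hinv)).coh
      have r2 := hX.rr hc
      rw [hd', h0X, (hequiv K i 0).finrank_eq] at r2
      haveI := hX.fin _ hc 1
      have hH : Module.finrank K (Coh.HH XK (F (CohB1.tensorMod L₀ J)) 1) = 0 := by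
        change Module.finrank K (Coh.HH XK (F L₀) 0) =
          Module.finrank K (Coh.HH XK (CohB1.tensorMod (F L₀) ((Scheme.Modules.pullback g).obj J)) 0) + 1 at e1
        omega
      exact ih _ hinv hword (Module.finrank_zero_iff.1 hH) hd'
  -- twist up to large degree
  obtain ⟨hdegJ, -⟩ := point_step hpb hdim hdimK e
  have hJ : PicF.IsInvertible (ClSub.idealMod e.1.ker) := Abel10.isInvertible_point hdim e.1 e.2
  obtain ⟨D, hD, ⟨eD⟩⟩ := M2.exists_inverse hJ
  have hDcls : PicGrp.cls D hD = (Abel10.ptCls hdim e.1 e.2)⁻¹ :=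
    eq_inv_of_mul_eq_one_right ((PicGrp.cls_mul_cls_eq_one_iff hJ hD).2 ⟨eD⟩)
  have hdegD : Curv2.deg K XK ((Scheme.Modules.pullback g).obj D) 1 = 1 := by
    rw [hX.deg_of_tensor_iso (PicLoc.isInvertible_pullback g hJ) (PicLoc.isInvertible_pullback g hD)
      ((M2.pullTensorIso g _ D).symm ≪≫ (Scheme.Modules.pullback g).mapIso eD ≪≫ Twist.pullbackUnitIso g), hdegJ]
    norm_num
  have up : ∀ m : ℕ, ∃ (L₀ : X.Modules) (h : PicF.IsInvertible L₀),
      PicGrp.cls L₀ h = wordCls hdim e (m, []) ∧ Curv2.deg K XK (F L₀) 1 = Curv2.deg K XK L 1 + m := by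
    intro m
    induction m with
    | zero =>
      refine ⟨Coh.structureModule X, PicLoc.isInvertible_structureModule X, ?_, ?_⟩
      · rw [wordCls, pow_zero, List.map_nil, List.prod_nil, mul_one]
        exact (PicGrp.cls_eq_one_iff _).2 ⟨Iso.refl _⟩
      · rw [deg_iso (M2.tensorIso (Iso.refl L) (Twist.pullbackUnitIso g) ≪≫ M2.tensorRUnit L : F _ ≅ L)]
        simp
    | succ m ih =>
      obtain ⟨L₀, h, hw, hd⟩ := ih
      obtain ⟨i⟩ := hFmul L₀ D
      refine ⟨_, M2.isInvertible_tensor h hD, ?_, ?_⟩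
      · rw [← AlgEquiv22.cls_tensor h hD, hw, hDcls, wordCls, wordCls]
        simp only [List.map_nil, List.prod_nil, mul_one, pow_succ]
      · rw [deg_iso i, hX.deg_tensor_invertible (hF h) (PicLoc.isInvertible_pullback g hD), hd, hdegD]
        push_cast
        ring
  obtain ⟨L₀, h, hw, hd⟩ := up (2 * (Curv2.genus K XK : ℤ) - Curv2.deg K XK L 1).toNat
  have h1 := hX.h1_subsingleton_of_deg (rkOne_of_invertible hdimK.le (hF h)) h0X (by omega)
  exact down (Curv2.deg K XK (F L₀) 1 - Curv2.genus K XK).toNat L₀ h ⟨_, hw⟩ h1 (by omega)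

end Groth.Agent.PicRep20
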