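import Groth.Agent.Lib.Abel10.FieldPt
import Groth.Agent.Lib.Abel10.DegOne
import Groth.Agent.Lib.HilbBC25.Basic
import Groth.Agent.Lib.PicTan20.DegFun
import Groth.Agent.S1184

/-!
# Divisors on curves over a field as finite subschemes
-/

set_option autoImplicit false
set_option linter.style.haveILetI false
set_option backward.isDefEq.respectTransparency false
set_option backward.isDefEq.respectTransparency.types false

universe u

open CategoryTheory CategoryTheory.Limits AlgebraicGeometry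

noncomputable section

namespace Groth.Agent.PicRep20

open Groth.Agent.CurveCoh17

variable {K : Type u} [Field K] {Z : Scheme.{u}} [Z.Over (Spec (CommRingCat.of K))]

/-- Global functions on a finite subscheme. -/
theorem finrank_quotMod_of_deg (D : Z.IdealSheafData) {d : ℕ}
    (h : Mor2.IsFinLocFreeOfDeg d (D.subschemeι ≫ (Z ↘ Spec (CommRingCat.of K)))) :
    Module.finrank K (Coh.HH Z (ClSub.quotMod D) 0) = d := by
  obtain ⟨⟨hf, hfl, -⟩, hr⟩ := h
  let c := D.subschemeι ≫ (Z ↘ Spec (CommRingCat.of K))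
  haveI : IsFinite c := hf
  haveI : Flat c := hfl
  haveI : IsAffine D.subscheme := isAffine_of_isAffineHom c
  let φ : K →+* Γ(D.subscheme, ⊤) := ((Scheme.ΓSpecIso (CommRingCat.of K)).inv ≫ c.appTop).hom
  letI : Algebra K Γ(D.subscheme, ⊤) := φ.toAlgebra
  haveI : Module.Finite K Γ(D.subscheme, ⊤) := by
    have h1 : φ.Finite := RingHom.Finite.comp c.finite_appTop
      (RingHom.Finite.of_surjective _ (ConcreteCategory.bijective_of_isIso (Scheme.ΓSpecIso (CommRingCat.of K)).inv).2)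
    exact h1
  have hc : c = D.subscheme.isoSpec.hom ≫ Spec.map (CommRingCat.ofHom (algebraMap K Γ(D.subscheme, ⊤))) := by
    have h0 : c = D.subscheme.isoSpec.hom ≫ Spec.map c.appTop ≫ (Spec (CommRingCat.of K)).isoSpec.inv := by
      rw [Scheme.isoSpec_inv_naturality, Iso.hom_inv_id_assoc]
    rw [show CommRingCat.ofHom (algebraMap K Γ(D.subscheme, ⊤)) =
      (Scheme.ΓSpecIso (CommRingCat.of K)).inv ≫ c.appTop from rfl, Spec.map_comp]
    conv_lhs => rw [h0]
    simp [Scheme.isoSpec_Spec_inv]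
  have h2 := hr (IsLocalRing.closedPoint K)
  rw [show D.subschemeι ≫ (Z ↘ Spec (CommRingCat.of K)) = c from rfl, hc] at h2
  haveI : Flat (Spec.map (CommRingCat.ofHom (algebraMap K Γ(D.subscheme, ⊤)))) :=
    Flat.SpecMap_iff.2 (RingHom.flat_algebraMap_iff.2 inferInstance)
  haveI : IsFinite (Spec.map (CommRingCat.ofHom (algebraMap K Γ(D.subscheme, ⊤)))) :=
    (IsFinite.SpecMap_iff _).2 (RingHom.finite_algebraMap.2 inferInstance)
  rw [Scheme.Hom.finrank_comp_left_of_isIso] at h2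
  have h3 : Module.finrank K Γ(D.subscheme, ⊤) = d := by
    have h4 := (Scheme.Hom.finrank_SpecMap_algebraMap K Γ(D.subscheme, ⊤) (IsLocalRing.closedPoint K)).symm.trans h2
    rwa [Module.rankAtStalk_eq_finrank_of_free] at h4
  let H := hh0 (ClSub.quotMod D)
  let e0 : Coh.HH Z (ClSub.quotMod D) 0 ≃+ Γ(D.subscheme, ⊤) := H
  have he : ∀ (a : K) (x : Coh.HH Z (ClSub.quotMod D) 0), e0 (a • x) = a • e0 x := fun a x => hh0_smul _ _
  let e : Coh.HH Z (ClSub.quotMod D) 0 ≃ₗ[K] Γ(D.subscheme, ⊤) := e0.toLinearEquiv he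
  rw [e.finrank_eq]
  exact h3

variable [IsProper (Z ↘ Spec (CommRingCat.of K))] [Smooth (Z ↘ Spec (CommRingCat.of K))] [IsIntegral Z]
  (hdim : topologicalKrullDim Z = 1)

include hdim in
/-- A finite subscheme of a curve is an effective Cartier divisor. -/
theorem isEffCartierIdeal_of_deg (D : Z.IdealSheafData) {d : ℕ}
    (h : Mor2.IsFinLocFreeOfDeg d (D.subschemeι ≫ (Z ↘ Spec (CommRingCat.of K)))) :
    BlowUp.IsEffCartierIdeal D := by
  haveI := CurveCartier25.smoothOfRelativeDimension_one (Z ↘ Spec (CommRingCat.of K)) hdim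
  exact ((S1184.result (Z ↘ Spec (CommRingCat.of K)) D).2 h.1).1

omit [Smooth (Z ↘ Spec (CommRingCat.of K))] [IsProper (Z ↘ Spec (CommRingCat.of K))] in
/-- The canonical section of a finite subscheme is nonzero. -/
theorem ne_zero_of_locEq {L : Z.Modules} (hL : PicF.IsInvertible L) {D : Z.IdealSheafData}
    {σ : Γ(L, (⊤ : Z.Opens))} (hσ : Abel10.LocEq L D σ) (hD : BlowUp.IsEffCartierIdeal D) : σ ≠ 0 := by
  intro h0
  obtain ⟨W, g, a, hxW, hg, hJ, hsW⟩ := hσ (genericPoint Z)
  obtain ⟨W', hxW', b, hb, hJ'⟩ := hD (genericPoint Z)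
  have ha : a = 0 := by
    refine (hg W.1 le_rfl).1 (a₁ := a) (a₂ := 0) ?_
    simp only [M1.mres_id, zero_smul]
    rw [← hsW, h0, map_zero]
  obtain ⟨z, hzW, hzW'⟩ : ∃ z, z ∈ W.1 ∧ z ∈ W'.1 := ⟨_, hxW, hxW'⟩
  obtain ⟨r, r', hr, hzr⟩ := exists_basicOpen_le_affine_inter W.2 W'.2 z ⟨hzW, hzW'⟩
  let V : Z.affineOpens := Z.affineBasicOpen r
  haveI : Nonempty V.1 := ⟨⟨z, hzr⟩⟩
  haveI : Nonempty W'.1 := ⟨⟨z, hzW'⟩⟩
  have h1 := Abel10.ideal_eq_span_res (J := D) (W := W) (V := V) (Z.basicOpen_le r) hJ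
  have hle : (V : Z.Opens) ≤ W'.1 := by
    show Z.basicOpen r ≤ _
    rw [hr]
    exact Z.basicOpen_le r'
  have h2 := Abel10.ideal_eq_span_res (J := D) (W := W') (V := V) hle hJ'
  rw [h1, ha, map_zero, Ideal.span_singleton_eq_span_singleton, Associated.comm, associated_zero_iff_eq_zero] at h2
  exact nonZeroDivisors.ne_zero hb ((map_eq_zero_iff _ (map_injective_of_isIntegral Z _)).1 h2)

include hdim in
/-- The degree of a module with a section cutting out a finite subscheme. -/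
theorem deg_eq_of_locEq {L : Z.Modules} (hL : PicF.IsInvertible L) {D : Z.IdealSheafData}
    {σ : Γ(L, (⊤ : Z.Opens))} (hσ : Abel10.LocEq L D σ) {d : ℕ}
    (h : Mor2.IsFinLocFreeOfDeg d (D.subschemeι ≫ (Z ↘ Spec (CommRingCat.of K)))) :
    Curv2.deg K Z L 1 = d := by
  have hD := isEffCartierIdeal_of_deg hdim D h
  have hX := CurveAmple18.curveLike K Z hdim.le
  haveI := hX.noetherian
  obtain ⟨e⟩ := Abel10.nonempty_iso_of_locEq hD hL hσ
  have h1 := hX.deg_of_tensor_iso hL (M2.isInvertible_idealMod _ hD) e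
  rw [CurveAmple18.deg_idealMod hdim.le hD, finrank_quotMod_of_deg D h] at h1
  omega

end Groth.Agent.PicRep20
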