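import Groth.Agent.Lib.PicTan20.DegFun
import Groth.Agent.Lib.Abel10.FieldPt
import Groth.Agent.Lib.CBC10.Rows0

/-!
# The first cohomology of a class on the fibres
-/

set_option autoImplicit false
set_option linter.style.haveILetI false
set_option maxHeartbeats 1000000
set_option backward.isDefEq.respectTransparency false
set_option backward.isDefEq.respectTransparency.types false

universe u

open CategoryTheory CategoryTheory.Limits AlgebraicGeometry

noncomputable section

namespace Groth.Agent.PicRep20

variable {C S : Scheme.{u}} (f : C ⟶ S)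

/-- The dimension of the first cohomology of a module on a fibre. -/
def h1Mod (T : Over S) (t : T.left) (L : (PicF.XT f T).Modules) : ℕ :=
  Module.finrank (T.left.residueField t) (Coh.HH (FGA.fibreAt f T t).left (FGA.restrFibre f T t L) 1)

/-- The dimension of the first cohomology of a class on a fibre. -/
def h1Cl (T : Over S) (t : T.left) (c : PicF.Cl (PicF.XT f T)) : ℕ := h1Mod f T t (Quot.out c)

theorem h1Cl_cl (T : Over S) (t : T.left) (L : (PicF.XT f T).Modules) :
    h1Cl f T t (PicF.cl L) = h1Mod f T t L := by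
  obtain ⟨e⟩ := (PicGrp.cl_eq_cl_iff _ _).1 (Quot.out_eq (PicF.cl L))
  exact (CurveCoh17.hequiv (T.left.residueField t) (X := (FGA.fibreAt f T t).left)
    ((Scheme.Modules.pullback _).mapIso e) 1).finrank_eq

variable [IsProper f]

theorem h1Mod_pull {T T' : Over S} (g : T' ⟶ T) (t : T'.left) {L : (PicF.XT f T).Modules} (hL : Coh.IsQCoh L) :
    h1Mod f T' t ((Scheme.Modules.pullback (PicF.XTmap f g)).obj L) = h1Mod f T (g.left t) L := by
  let s := g.left t
  let a := pullback.fst (PicF.XTproj f T') (T'.left.fromSpecResidueField t)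
  let b := pullback.snd (PicF.XTproj f T') (T'.left.fromSpecResidueField t)
  let a' := pullback.fst (PicF.XTproj f T) (T.left.fromSpecResidueField s)
  let b' := pullback.snd (PicF.XTproj f T) (T.left.fromSpecResidueField s)
  have hout : IsPullback (a ≫ PicF.XTmap f g) b (PicF.XTproj f T)
      (Spec.map (g.left.residueFieldMap t) ≫ T.left.fromSpecResidueField s) := by
    rw [Scheme.Hom.SpecMap_residueFieldMap_fromSpecResidueField]
    exact (IsPullback.of_hasPullback (PicF.XTproj f T') (T'.left.fromSpecResidueField t)).paste_horiz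
      (HilbBC25.isPullback_XTmap f g)
  let F : (FGA.fibreAt f T' t).left ⟶ (FGA.fibreAt f T s).left :=
    pullback.lift (a ≫ PicF.XTmap f g) (b ≫ Spec.map (g.left.residueFieldMap t)) (by
      rw [Category.assoc b]; exact hout.w)
  have hF : F ≫ a' = a ≫ PicF.XTmap f g := pullback.lift_fst _ _ _
  have hpb : IsPullback F b b' (Spec.map (CommRingCat.ofHom (g.left.residueFieldMap t).hom)) := by
    refine IsPullback.of_right (h₁₂ := a') (v₁₃ := PicF.XTproj f T) (h₂₂ := T.left.fromSpecResidueField s) ?_
      (pullback.lift_snd _ _ _) (IsPullback.of_hasPullback (PicF.XTproj f T) (T.left.fromSpecResidueField s))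
    rw [hF]
    exact hout
  letI : (FGA.fibreAt f T' t).left.Over (Spec (CommRingCat.of (T'.left.residueField t))) := ⟨b⟩
  letI : (FGA.fibreAt f T s).left.Over (Spec (CommRingCat.of (T.left.residueField s))) := ⟨b'⟩
  haveI : IsProper b' := MorphismProperty.pullback_snd _ _ inferInstance
  haveI : CompactSpace (FGA.fibreAt f T s).left := QuasiCompact.compactSpace_of_compactSpace b'
  haveI : QuasiSeparatedSpace (FGA.fibreAt f T s).left := quasiSeparatedSpace_of_quasiSeparated b'
  refine ((CurveCoh17.hequiv (T'.left.residueField t) (X := (FGA.fibreAt f T' t).left) ?_ 1).finrank_eq).trans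
    (PicTan20.finrank_HH_pullback_mod (g.left.residueFieldMap t).hom hpb (M1.isQCoh_pullback a' hL) 1)
  exact (Scheme.Modules.pullbackComp a (PicF.XTmap f g)).app L ≪≫
    (Scheme.Modules.pullbackCongr hF.symm).app L ≪≫ ((Scheme.Modules.pullbackComp F a').app L).symm

theorem h1Cl_pull {T T' : Over S} (g : T' ⟶ T) (t : T'.left) {c : PicF.Cl (PicF.XT f T)}
    (hc : PicF.IsInvertibleCl c) :
    h1Cl f T' t (PicF.pullCl (PicF.XTmap f g) c) = h1Cl f T (g.left t) c := by
  obtain ⟨L, rfl, hL⟩ := hc
  rw [h1Cl_cl, show PicF.pullCl (PicF.XTmap f g) (PicF.cl L) =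
    PicF.cl ((Scheme.Modules.pullback (PicF.XTmap f g)).obj L) from rfl, h1Cl_cl,
    h1Mod_pull f g t (Twist.isQCoh_of_isInvertible hL)]

variable [Flat f] [LocallyOfFinitePresentation f]

/-- The points where a class has degree `d` and no first cohomology form an open set. -/
theorem isOpen_good (hd : ∀ s : S, topologicalKrullDim ↥(f.fiber s) ≤ (1 : WithBot ℕ∞)) (T : Over S)
    {c : PicF.Cl (PicF.XT f T)} (hc : PicF.IsInvertibleCl c) (d : ℤ) :
    IsOpen {t : T.left | PicTan20.degCl f T t c = d ∧ h1Cl f T t c = 0} := by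
  obtain ⟨L, rfl, hL⟩ := hc
  let p := PicF.XTproj f T
  haveI : IsProper p := MorphismProperty.pullback_snd _ _ inferInstance
  haveI : Flat p := MorphismProperty.pullback_snd _ _ inferInstance
  haveI : LocallyOfFinitePresentation p := MorphismProperty.pullback_snd _ _ inferInstance
  have h1 := (PicTan20.isLocallyConstant_degMod f hd T hL).isOpen_fiber d
  have h2 := (FibEuler9.upperSemicontinuous_betti p L (LimShf14.isFP_of_isInvertible hL)
    (DPerf.isFlatOver_of_isFlat p (KFlat.Sch.isFlat_of_isFinLocFree (M2.isFinLocFree_of_isInvertible hL))) 1).isOpen_preimage 1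
  convert h1.inter h2 using 1
  ext t
  simp only [Set.mem_setOf_eq, PicTan20.degCl_cl, h1Cl_cl, Set.mem_inter_iff, Set.mem_preimage, Set.mem_Iio,
    Nat.lt_one_iff]
  rfl

end Groth.Agent.PicRep20
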