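import Groth.Agent.Lib.PicRep20.Rep
import Groth.Agent.S12415
import Mathlib.Algebra.Group.TransferInstance

/-!
# The degree zero part of a representation of the rigidified Picard functor
-/

set_option autoImplicit false
set_option linter.style.haveILetI false
set_option linter.unusedSectionVars false
set_option maxHeartbeats 2000000
set_option backward.isDefEq.respectTransparency false
set_option backward.isDefEq.respectTransparency.types false

universe u

open CategoryTheory CategoryTheory.Limits AlgebraicGeometry TopologicalSpace Opposite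

noncomputable section

namespace Groth.Agent.PicRep20

open Groth.Agent.Abel10 (pc pc_comp pc_id)

noncomputable local instance instLawPic (Y : Scheme.{u}) : PicGrp.Law Y := M2.law Y

variable {k : Type u} [Field k] {X : Scheme.{u}} (f : X ⟶ Spec (CommRingCat.of k)) [IsProper f] [Smooth f]
  [GeometricallyConnected f] [IsIntegral X] [GeometricallyIrreducible f]
  (σ : Spec (CommRingCat.of k) ⟶ X) (hσ : σ ≫ f = 𝟙 _)

variable {f σ hσ}

theorem pc_secT_proj {T : Over (Spec (CommRingCat.of k))} (n : PicLoc.PicSet T.left) :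
    pc (PicF.secT f σ hσ T) (pc (PicF.XTproj f T) n) = n := by
  rw [pc_comp (PicF.secT f σ hσ T) _ (RigDesc22.secT_proj f σ hσ T), pc_id]

theorem pc_proj_map {T T' : Over (Spec (CommRingCat.of k))} (g : T' ⟶ T) (n : PicLoc.PicSet T.left) :
    pc (PicF.XTmap f g) (pc (PicF.XTproj f T) n) = pc (PicF.XTproj f T') (pc g.left n) := by
  rw [pc_comp (PicF.XTmap f g) _ (RigDesc22.XTmap_proj f g), pc_comp (PicF.XTproj f T') g.left rfl]

theorem pc_secT_map {T T' : Over (Spec (CommRingCat.of k))} (g : T' ⟶ T) (c : PicLoc.PicSet (PicF.XT f T)) :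
    pc (PicF.secT f σ hσ T') (pc (PicF.XTmap f g) c) = pc g.left (pc (PicF.secT f σ hσ T) c) := by
  rw [pc_comp (PicF.secT f σ hσ T') _ (RigDesc22.secT_XTmap f σ hσ g), pc_comp g.left (PicF.secT f σ hσ T) rfl]

variable (σ hσ) in
/-- The rigidified translate of a class. -/
def normCls {T : Over (Spec (CommRingCat.of k))} (c : PicLoc.PicSet (PicF.XT f T)) : PicF.Rig f σ hσ T :=
  mkRig (c * pc (PicF.XTproj f T) (pc (PicF.secT f σ hσ T) c)⁻¹)
    (by rw [map_mul, pc_secT_proj, mul_inv_cancel])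

theorem normCls_toPic {T : Over (Spec (CommRingCat.of k))} (c : PicF.Rig f σ hσ T) : normCls σ hσ (toPic c) = c := by
  apply toPic_injective
  show toPic c * pc (PicF.XTproj f T) (pc (PicF.secT f σ hσ T) (toPic c))⁻¹ = toPic c
  rw [toPic_rig, inv_one, map_one, mul_one]

theorem normCls_map {T T' : Over (Spec (CommRingCat.of k))} (g : T' ⟶ T) (c : PicLoc.PicSet (PicF.XT f T)) :
    normCls σ hσ (pc (PicF.XTmap f g) c) = rigMap g (normCls σ hσ c) := by
  apply toPic_injective
  show pc (PicF.XTmap f g) c * pc (PicF.XTproj f T') (pc (PicF.secT f σ hσ T') (pc (PicF.XTmap f g) c))⁻¹ =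
    pc (PicF.XTmap f g) (c * pc (PicF.XTproj f T) (pc (PicF.secT f σ hσ T) c)⁻¹)
  rw [map_mul, map_inv, map_inv, map_inv, pc_proj_map, pc_secT_map]

theorem degCl_normCls {T : Over (Spec (CommRingCat.of k))} (c : PicLoc.PicSet (PicF.XT f T)) (t : T.left) :
    PicTan20.degCl f T t (normCls σ hσ c).1 = PicTan20.degCl f T t c.1 :=
  (fibre_twist f t c.2 ((pc (PicF.secT f σ hσ T) c)⁻¹).2).1

variable {P : Over (Spec (CommRingCat.of k))} {u : PicF.Rig f σ hσ P}
  (hu : ∀ (T : Over (Spec (CommRingCat.of k))) (c : PicF.Rig f σ hσ T),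
    ∃! g : T ⟶ P, PicF.pullCl (PicF.XTmap f g) u.1 = c.1)

/-- The classifying morphism of a class. -/
def toHom {T : Over (Spec (CommRingCat.of k))} (c : PicLoc.PicSet (PicF.XT f T)) : T ⟶ P :=
  (hu T (normCls σ hσ c)).choose

theorem rigMap_toHom {T : Over (Spec (CommRingCat.of k))} (c : PicLoc.PicSet (PicF.XT f T)) :
    rigMap (toHom hu c) u = normCls σ hσ c := Subtype.ext (hu T (normCls σ hσ c)).choose_spec.1

include hu in
theorem hom_ext {T : Over (Spec (CommRingCat.of k))} {g g' : T ⟶ P} (h : rigMap g u = rigMap g' u) : g = g' :=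
  (hu T (rigMap g' u)).unique (congrArg Subtype.val h) rfl

theorem rigMap_comp {T T' T'' : Over (Spec (CommRingCat.of k))} (g : T'' ⟶ T') (g' : T' ⟶ T)
    (c : PicF.Rig f σ hσ T) : rigMap (g ≫ g') c = rigMap g (rigMap g' c) :=
  Subtype.ext (RigDesc22.pullCl_XTmap f g g' c.1).symm

theorem toHom_map {T T' : Over (Spec (CommRingCat.of k))} (g : T' ⟶ T) (c : PicLoc.PicSet (PicF.XT f T)) :
    toHom hu (pc (PicF.XTmap f g) c) = g ≫ toHom hu c := by
  refine hom_ext hu ?_
  rw [rigMap_toHom, rigMap_comp, rigMap_toHom, normCls_map]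

theorem toHom_rigMap {T : Over (Spec (CommRingCat.of k))} (g : T ⟶ P) : toHom hu (toPic (rigMap g u)) = g := by
  refine hom_ext hu ?_
  rw [rigMap_toHom, normCls_toPic]

open Classical in
/-- The classifying morphism, with a junk value on classes which are not invertible. -/
def phi (T : Over (Spec (CommRingCat.of k))) (c : PicF.Cl (PicF.XT f T)) : T ⟶ P :=
  if h : PicF.IsInvertibleCl c then toHom hu ⟨c, h⟩ else toHom hu 1

theorem phi_eq {T : Over (Spec (CommRingCat.of k))} (c : PicLoc.PicSet (PicF.XT f T)) : phi hu T c.1 = toHom hu c :=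
  dif_pos c.2

theorem phi_eq' {T : Over (Spec (CommRingCat.of k))} {c : PicF.Cl (PicF.XT f T)} (h : PicF.IsInvertibleCl c) :
    phi hu T c = toHom hu ⟨c, h⟩ := dif_pos h

theorem singleton_mem_fppf (T : Scheme.{u}) :
    Presieve.ofArrows (fun _ : PUnit.{u + 1} => T) (fun _ => 𝟙 T) ∈ Scheme.fppfPrecoverage T :=
  PicDesc21.mem_fppf_iff.2 ⟨fun x => ⟨⟨⟩, x, rfl⟩, fun _ => ⟨inferInstance, inferInstance⟩⟩

/-- Classes with the same classifying morphism agree locally on the base. -/
theorem locally_eq {T : Over (Spec (CommRingCat.of k))} {c c' : PicLoc.PicSet (PicF.XT f T)}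
    (h : toHom hu c = toHom hu c') :
    ∃ R ∈ Scheme.fppfPrecoverage T.left, ∀ ⦃U : Scheme.{u}⦄ (v : U ⟶ T.left), R v →
      PicF.pullCl (PicF.XTmap f (AbDual.ovrHom T v)) c.1 = PicF.pullCl (PicF.XTmap f (AbDual.ovrHom T v)) c'.1 := by
  have hn : normCls σ hσ c = normCls σ hσ c' := by rw [← rigMap_toHom hu, h, rigMap_toHom]
  choose U hU hUc using fun t => exists_open_trivial ((pc (PicF.secT f σ hσ T) c)⁻¹).2 t
  choose U' hU' hUc' using fun t => exists_open_trivial ((pc (PicF.secT f σ hσ T) c')⁻¹).2 t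
  refine ⟨_, fppf_of_cover (fun t => U t ⊓ U' t) (fun t => ⟨t, hU t, hU' t⟩), ?_⟩
  rintro _ _ ⟨t⟩
  let w := AbDual.ovrHom T (U t ⊓ U' t).ι
  have hw : ∀ (n : PicF.Cl T.left) (U₀ : T.left.Opens), U t ⊓ U' t ≤ U₀ →
      PicF.IsTrivialCl (PicF.pullCl U₀.ι n) → PicF.IsTrivialCl (PicF.pullCl w.left n) := fun n U₀ hle hn => by
    have h1 := PicDesc21.pullCl_trivial (T.left.homOfLE hle) hn
    rwa [PicDesc21.pullCl_pullCl, Scheme.homOfLE_ι] at h1
  have h1 := congrArg (fun d : PicF.Rig f σ hσ T => PicF.pullCl (PicF.XTmap f w) d.1) hn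
  change PicF.pullCl (PicF.XTmap f w) (PicGrp.mulCl c.1 _) = PicF.pullCl (PicF.XTmap f w) (PicGrp.mulCl c'.1 _) at h1
  exact ((pull_twist f w c.1 (hw _ _ inf_le_left (hUc t))).symm.trans h1).trans
    (pull_twist f w c'.1 (hw _ _ inf_le_right (hUc' t)))

theorem isRelPicK : AbDual.IsRelPicK Scheme.fppfPrecoverage f P (phi hu) where
  natural T T' g c hc := by
    rw [phi_eq' hu hc, ← toHom_map hu g ⟨c, hc⟩]
    exact phi_eq hu (pc (PicF.XTmap f g) ⟨c, hc⟩)
  locallySurjective T g := ⟨_, singleton_mem_fppf T.left, by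
    rintro _ _ ⟨⟩
    exact ⟨_, (rigMap (AbDual.ovrHom T (𝟙 T.left) ≫ g) u).2.1, (phi_eq hu (toPic _)).trans (toHom_rigMap hu _)⟩⟩
  locallyInjective T c c' hc hc' h := by
    rw [phi_eq' hu hc, phi_eq' hu hc'] at h
    exact locally_eq hu h

variable (hdim : topologicalKrullDim X = 1)

include hdim in
theorem isLocallyConstant_deg : IsLocallyConstant fun p : P.left => PicTan20.degCl f P p u.1 := by
  obtain ⟨L, hL, hLi⟩ := u.2.1
  simp only [← hL, PicTan20.degCl_cl]
  exact PicTan20.isLocallyConstant_degMod f (fun s => (fiber_dim f hdim s).le) P hLi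

variable (u) in
/-- The open part of degree zero. -/
def zeroOpen : P.left.Opens := ⟨{p | PicTan20.degCl f P p u.1 = 0}, (isLocallyConstant_deg hdim).isOpen_fiber 0⟩

variable (u) in
/-- The degree zero part. -/
def zeroPart : Over (Spec (CommRingCat.of k)) := AbDual.ovr P (zeroOpen u hdim).ι

variable (u) in
/-- The inclusion of the degree zero part. -/
def zeroIncl : zeroPart u hdim ⟶ P := AbDual.ovrHom P (zeroOpen u hdim).ι

theorem mem_zeroOpen_iff {T : Over (Spec (CommRingCat.of k))} (g : T ⟶ P) (t : T.left) :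
    g.left t ∈ zeroOpen u hdim ↔ PicTan20.degCl f T t (rigMap g u).1 = 0 := by
  show PicTan20.degCl f P (g.left t) u.1 = 0 ↔ _
  rw [← PicTan20.degCl_pull f g t u.2.1]
  rfl

theorem degCl_toHom {T : Over (Spec (CommRingCat.of k))} (c : PicLoc.PicSet (PicF.XT f T)) (t : T.left) :
    PicTan20.degCl f T t (rigMap (toHom hu c) u).1 = PicTan20.degCl f T t c.1 := by
  rw [rigMap_toHom, degCl_normCls]

/-- A classifying morphism of degree zero lands in the degree zero part. -/
def liftZero {T : Over (Spec (CommRingCat.of k))} (g : T ⟶ P) (hg : ∀ t, PicTan20.degCl f T t (rigMap g u).1 = 0) :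
    T ⟶ zeroPart u hdim :=
  Over.homMk (IsOpenImmersion.lift (zeroOpen u hdim).ι g.left (by
      rintro _ ⟨t, rfl⟩
      exact ⟨⟨g.left t, (mem_zeroOpen_iff hdim g t).2 (hg t)⟩, rfl⟩))
    (show IsOpenImmersion.lift (zeroOpen u hdim).ι g.left _ ≫ (zeroOpen u hdim).ι ≫ P.hom = T.hom by
      rw [← Category.assoc, IsOpenImmersion.lift_fac]
      exact Over.w g)

theorem liftZero_incl {T : Over (Spec (CommRingCat.of k))} (g : T ⟶ P)
    (hg : ∀ t, PicTan20.degCl f T t (rigMap g u).1 = 0) : liftZero hdim g hg ≫ zeroIncl u hdim = g :=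
  Over.OverMorphism.ext (IsOpenImmersion.lift_fac _ _ _)

theorem zeroIncl_cancel {T : Over (Spec (CommRingCat.of k))} {a b : T ⟶ zeroPart u hdim}
    (h : a ≫ zeroIncl u hdim = b ≫ zeroIncl u hdim) : a = b :=
  Over.OverMorphism.ext ((cancel_mono (zeroOpen u hdim).ι).1 (congrArg CommaMorphism.left h))

theorem deg_zeroPart {T : Over (Spec (CommRingCat.of k))} (a : T ⟶ zeroPart u hdim) (t : T.left) :
    PicTan20.degCl f T t (rigMap (a ≫ zeroIncl u hdim) u).1 = 0 :=
  (mem_zeroOpen_iff hdim _ t).1 (a.left t).2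

include hdim in
theorem degCl_one {T : Over (Spec (CommRingCat.of k))} (t : T.left) :
    PicTan20.degCl f T t (1 : PicLoc.PicSet (PicF.XT f T)).1 = 0 := by
  have h := PicTan20.degCl_mul f (fiber_dim f hdim) t (1 : PicLoc.PicSet (PicF.XT f T)) 1
  rw [one_mul] at h
  omega

open Classical in
/-- The classifying morphism of a class algebraically trivial on the fibres. -/
def phiZero (T : Over (Spec (CommRingCat.of k))) (c : PicF.Cl (PicF.XT f T)) : T ⟶ zeroPart u hdim :=
  if h : ∃ hc : PicF.IsInvertibleCl c, ∀ t, PicTan20.degCl f T t c = 0 then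
    liftZero hdim (toHom hu ⟨c, h.1⟩) fun t => (degCl_toHom hu _ t).trans (h.2 t)
  else liftZero hdim (toHom hu 1) fun t => (degCl_toHom hu _ t).trans (degCl_one hdim t)

include hdim in
theorem picZero_props {T : Over (Spec (CommRingCat.of k))} {c : PicF.Cl (PicF.XT f T)}
    (hc : AbDual.IsPicZeroCl f T c) : ∃ _ : PicF.IsInvertibleCl c, ∀ t, PicTan20.degCl f T t c = 0 := by
  obtain ⟨L, hL, hLi, -⟩ := id hc
  exact ⟨⟨L, hL, hLi⟩, (PicTan20.isPicZeroCl_iff_degCl f (fiber_dim f hdim) ⟨L, hL, hLi⟩).1 hc⟩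

theorem phiZero_incl {T : Over (Spec (CommRingCat.of k))} {c : PicF.Cl (PicF.XT f T)}
    (hc : AbDual.IsPicZeroCl f T c) : phiZero hu hdim T c ≫ zeroIncl u hdim = phi hu T c := by
  rw [phiZero, dif_pos (picZero_props hdim hc), liftZero_incl, phi_eq' hu]

theorem isRelPicZeroK : AbDual.IsRelPicZeroK Scheme.fppfPrecoverage f (zeroPart u hdim) (phiZero hu hdim) where
  natural T T' g c hc := by
    refine zeroIncl_cancel hdim ?_
    rw [Category.assoc, phiZero_incl hu hdim hc,
      phiZero_incl hu hdim ((RigDesc22.good_picZero f).pull g hc)]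
    obtain ⟨hi, -⟩ := picZero_props hdim hc
    exact (isRelPicK hu).natural T T' g c hi
  locallySurjective T g := ⟨_, singleton_mem_fppf T.left, by
    rintro _ _ ⟨⟩
    let g' := AbDual.ovrHom T (𝟙 T.left) ≫ g
    have hz : AbDual.IsPicZeroCl f _ (rigMap (g' ≫ zeroIncl u hdim) u).1 :=
      (PicTan20.isPicZeroCl_iff_degCl f (fiber_dim f hdim) (rigMap (g' ≫ zeroIncl u hdim) u).2.1).2
        (deg_zeroPart hdim g')
    refine ⟨_, hz, zeroIncl_cancel hdim ?_⟩
    rw [phiZero_incl hu hdim hz]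
    exact (phi_eq hu (toPic _)).trans (toHom_rigMap hu _)⟩
  locallyInjective T c c' hc hc' h := by
    obtain ⟨hi, -⟩ := picZero_props hdim hc
    obtain ⟨hi', -⟩ := picZero_props hdim hc'
    refine (isRelPicK hu).locallyInjective T c c' hi hi' ?_
    rw [← phiZero_incl hu hdim hc, h, phiZero_incl hu hdim hc']

include hu in
/-- The degree zero part is proper, smooth and geometrically irreducible. -/
theorem zeroPart_props [LocallyOfFiniteType P.hom] :
    IsProper (zeroPart u hdim).hom ∧ Smooth (zeroPart u hdim).hom ∧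
      GeometricallyIrreducible (zeroPart u hdim).hom := by
  haveI : LocallyOfFinitePresentation P.hom := inferInstance
  obtain ⟨-, -, h1, h2, h3⟩ := S12415.result f (fiber_dim f hdim) P (phi hu) (isRelPicK hu) (zeroPart u hdim)
    (phiZero hu hdim) (isRelPicZeroK hu hdim) (zeroIncl u hdim) fun T c hc => phiZero_incl hu hdim hc
  refine ⟨h1, h2, ⟨geometrically_iff_of_commRing_of_isClosedUnderIsomorphisms.mpr fun L _ _ => ?_⟩⟩
  let b := Spec.map (CommRingCat.ofHom (algebraMap k L))
  letI : (pullback (zeroPart u hdim).hom b).Over (Spec (CommRingCat.of L)) := ⟨pullback.snd _ _⟩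
  haveI : IsProper (pullback (zeroPart u hdim).hom b ↘ Spec (CommRingCat.of L)) :=
    MorphismProperty.pullback_snd (P := @IsProper) _ _ h1
  haveI : Smooth (pullback (zeroPart u hdim).hom b ↘ Spec (CommRingCat.of L)) :=
    MorphismProperty.pullback_snd (P := @Smooth) _ _ h2
  haveI : GeometricallyConnected (pullback (zeroPart u hdim).hom b ↘ Spec (CommRingCat.of L)) :=
    MorphismProperty.pullback_snd (P := @GeometricallyConnected) _ _ h3
  haveI := VB17.isIntegral_of_smooth (k := L) (X := pullback (zeroPart u hdim).hom b)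
  exact inferInstanceAs (IrreducibleSpace (pullback (zeroPart u hdim).hom b : Scheme.{u}))

/-- Classes of degree zero with trivial rigidification. -/
def zeroSub (T : Over (Spec (CommRingCat.of k))) : Subgroup (PicLoc.PicSet (PicF.XT f T)) where
  carrier := {c | pc (PicF.secT f σ hσ T) c = 1 ∧ ∀ t, PicTan20.degCl f T t c.1 = 0}
  one_mem' := ⟨map_one _, degCl_one hdim⟩
  mul_mem' {a b} ha hb := ⟨by rw [map_mul, ha.1, hb.1, one_mul], fun t => by
    rw [PicTan20.degCl_mul f (fiber_dim f hdim), ha.2 t, hb.2 t]; rfl⟩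
  inv_mem' {a} ha := ⟨by rw [map_inv, ha.1, inv_one], fun t => by
    have h := PicTan20.degCl_mul f (fiber_dim f hdim) t a⁻¹ a
    rw [inv_mul_cancel, degCl_one hdim, ha.2 t, add_zero] at h
    exact h.symm⟩

/-- Points of the degree zero part are classes. -/
def ptsEquiv (T : Over (Spec (CommRingCat.of k))) : (T ⟶ zeroPart u hdim) ≃ zeroSub (σ := σ) (hσ := hσ) hdim T where
  toFun a := ⟨toPic (rigMap (a ≫ zeroIncl u hdim) u), toPic_rig _, deg_zeroPart hdim a⟩
  invFun c := liftZero hdim (toHom hu c.1) fun t => (degCl_toHom hu _ t).trans (c.2.2 t)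
  left_inv a := zeroIncl_cancel hdim (by rw [liftZero_incl]; exact toHom_rigMap hu _)
  right_inv c := Subtype.ext (by
    show toPic (rigMap (liftZero hdim (toHom hu c.1) _ ≫ zeroIncl u hdim) u) = c.1
    rw [liftZero_incl, rigMap_toHom]
    show c.1 * pc (PicF.XTproj f T) (pc (PicF.secT f σ hσ T) c.1)⁻¹ = c.1
    rw [c.2.1, inv_one, map_one, mul_one])

theorem ptsEquiv_comp {T T' : Over (Spec (CommRingCat.of k))} (g : T' ⟶ T) (a : T ⟶ zeroPart u hdim) :
    (ptsEquiv hu hdim T' (g ≫ a)).1 = pc (PicF.XTmap f g) (ptsEquiv hu hdim T a).1 := by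
  show toPic (rigMap ((g ≫ a) ≫ zeroIncl u hdim) u) = _
  rw [Category.assoc, rigMap_comp]
  rfl

/-- The presheaf of groups of points of the degree zero part. -/
def zeroFunctor : (Over (Spec (CommRingCat.of k)))ᵒᵖ ⥤ GrpCat.{u} where
  obj T := @GrpCat.of (T.unop ⟶ zeroPart u hdim) (ptsEquiv hu hdim T.unop).group
  map {T T'} g :=
    letI := (ptsEquiv hu hdim T.unop).group
    letI := (ptsEquiv hu hdim T'.unop).group
    GrpCat.ofHom (MonoidHom.mk' (fun a => g.unop ≫ a) fun a b => by
      refine (ptsEquiv hu hdim T'.unop).injective (Subtype.ext ?_)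
      show (ptsEquiv hu hdim T'.unop (g.unop ≫ (ptsEquiv hu hdim T.unop).symm
          (ptsEquiv hu hdim T.unop a * ptsEquiv hu hdim T.unop b))).1 =
        (ptsEquiv hu hdim T'.unop ((ptsEquiv hu hdim T'.unop).symm
          (ptsEquiv hu hdim T'.unop (g.unop ≫ a) * ptsEquiv hu hdim T'.unop (g.unop ≫ b)))).1
      rw [ptsEquiv_comp, Equiv.apply_symm_apply, Equiv.apply_symm_apply]
      push_cast
      rw [map_mul, ptsEquiv_comp, ptsEquiv_comp])
  map_id T := by
    apply GrpCat.ext
    exact fun a => Category.id_comp a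
  map_comp g h := by
    apply GrpCat.ext
    exact fun a => Category.assoc h.unop g.unop a

/-- The group law of the degree zero part. -/
@[implicit_reducible]
def zeroGrpObj : GrpObj (zeroPart u hdim) :=
  GrpObj.ofRepresentableBy (zeroPart u hdim) (zeroFunctor hu hdim)
    { homEquiv := fun {T} => Equiv.refl (T ⟶ zeroPart u hdim)
      homEquiv_comp := fun _ _ => rfl }

end Groth.Agent.PicRep20
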