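import Groth.Agent.Lib.PicRep20.Translate
import Groth.Agent.Lib.OverRep16.Glue

/-!
# The rigidified Picard functor of a curve over a separably closed field is representable
-/

set_option autoImplicit false
set_option linter.style.haveILetI false
set_option linter.unusedSectionVars false
set_option maxHeartbeats 2000000
set_option backward.isDefEq.respectTransparency false
set_option backward.isDefEq.respectTransparency.types false

universe u

open CategoryTheory CategoryTheory.Limits AlgebraicGeometry TopologicalSpace Opposite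

noncomputable section

namespace Groth.Agent.PicRep20

open Groth.Agent.Abel10 (pc pc_comp pc_id)

noncomputable local instance instLawRep (Y : Scheme.{u}) : PicGrp.Law Y := M2.law Y

variable {k : Type u} [Field k] {X : Scheme.{u}} (f : X ⟶ Spec (CommRingCat.of k)) [IsProper f] [Smooth f]
  [GeometricallyConnected f] [IsIntegral X] [GeometricallyIrreducible f] (hdim : topologicalKrullDim X = 1)
  (σ : Spec (CommRingCat.of k) ⟶ X) (hσ : σ ≫ f = 𝟙 _)

variable {f σ hσ}

/-- The underlying invertible class. -/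
def toPic {T : Over (Spec (CommRingCat.of k))} (c : PicF.Rig f σ hσ T) : PicLoc.PicSet (PicF.XT f T) := ⟨c.1, c.2.1⟩

theorem toPic_rig {T : Over (Spec (CommRingCat.of k))} (c : PicF.Rig f σ hσ T) :
    pc (PicF.secT f σ hσ T) (toPic c) = 1 :=
  Subtype.ext (c.2.2.trans PicGrp.one_val.symm)

/-- A class with trivial rigidification as an element of the functor. -/
def mkRig {T : Over (Spec (CommRingCat.of k))} (c : PicLoc.PicSet (PicF.XT f T))
    (h : pc (PicF.secT f σ hσ T) c = 1) : PicF.Rig f σ hσ T :=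
  ⟨c.1, c.2, (congrArg Subtype.val h).trans PicGrp.one_val⟩

theorem toPic_injective {T : Over (Spec (CommRingCat.of k))} :
    Function.Injective (toPic : PicF.Rig f σ hσ T → _) := fun a b h => Subtype.ext (congrArg (fun x : PicLoc.PicSet (PicF.XT f T) => x.1) h)

/-- Pullback of rigidified classes. -/
def rigMap {T T' : Over (Spec (CommRingCat.of k))} (g : T' ⟶ T) (c : PicF.Rig f σ hσ T) : PicF.Rig f σ hσ T' :=
  ⟨PicF.pullCl (PicF.XTmap f g) c.1, PicDesc21.isInvertibleCl_pull _ c.2.1,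
    RigDesc22.trivial_pull f σ hσ g c.2.2⟩

theorem toPic_rigMap {T T' : Over (Spec (CommRingCat.of k))} (g : T' ⟶ T) (c : PicF.Rig f σ hσ T) :
    toPic (rigMap g c) = pc (PicF.XTmap f g) (toPic c) := rfl

/-- Rigidified classes agreeing on an open cover are equal. -/
theorem rig_ext {T : Over (Spec (CommRingCat.of k))} {ι : Type u} {U : ι → Scheme.{u}} (u : ∀ i, U i ⟶ T.left)
    [∀ i, IsOpenImmersion (u i)] (hu : ∀ t, ∃ i, t ∈ Set.range (u i)) {c c' : PicF.Rig f σ hσ T}
    (h : ∀ i, PicF.pullCl (PicF.XTmap f (AbDual.ovrHom T (u i))) c.1 =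
      PicF.pullCl (PicF.XTmap f (AbDual.ovrHom T (u i))) c'.1) : c = c' := by
  refine Subtype.ext (PicDesc21.cl_eq_of_local f (bijective_appTop_proj f) σ hσ c.2.1 c'.2.1
    (c.2.2.trans c'.2.2.symm) (R := Presieve.ofArrows U u) ?_ ?_)
  · refine PicDesc21.mem_fppf_iff.2 ⟨fun t => ?_, fun i => ⟨inferInstance, inferInstance⟩⟩
    obtain ⟨i, z, hz⟩ := hu t
    exact ⟨i, z, hz⟩
  · rintro _ _ ⟨i⟩
    exact h i

variable (f σ hσ) {g : ℕ}
  (hcover : ∀ (T : Over (Spec (CommRingCat.of k))) (c : PicLoc.PicSet (PicF.XT f T)) (t : T.left),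
    ∃ a : Word f, PicTan20.degCl f T t (c * trCls f hdim σ hσ T a).1 = g ∧
      h1Cl f T t (c * trCls f hdim σ hσ T a).1 = 0)
  (hg : letI : X.Over (Spec (CommRingCat.of k)) := ⟨f⟩; Curv2.genus k X = g)
  {V : Over (Spec (CommRingCat.of k))} {ξ : PicF.Cl (PicF.XT f V)}
  (hξ : PicF.IsInvertibleCl ξ) (hξr : PicF.IsTrivialCl (PicF.pullCl (PicF.secT f σ hσ V) ξ)) (hξg : Good f V g ξ)
  (huniv : ∀ (T : Over (Spec (CommRingCat.of k))) (c : PicF.Cl (PicF.XT f T)), PicF.IsInvertibleCl c →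
    PicF.IsTrivialCl (PicF.pullCl (PicF.secT f σ hσ T) c) → Good f T g c →
      ∃! h : T ⟶ V, PicF.pullCl (PicF.XTmap f h) ξ = c)

/-- The translate of a class. -/
def shift {T : Over (Spec (CommRingCat.of k))} (c : PicF.Rig f σ hσ T) (a : Word f) : PicF.Rig f σ hσ T :=
  mkRig (toPic c * trCls f hdim σ hσ T a) (by rw [map_mul, toPic_rig, pc_sec_trCls, one_mul])

theorem shift_map {T T' : Over (Spec (CommRingCat.of k))} (j : T' ⟶ T) (c : PicF.Rig f σ hσ T) (a : Word f) :
    shift f hdim σ hσ (rigMap j c) a = rigMap j (shift f hdim σ hσ c a) := by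
  apply toPic_injective
  show toPic (rigMap j c) * trCls f hdim σ hσ T' a = pc (PicF.XTmap f j) (toPic c * trCls f hdim σ hσ T a)
  rw [map_mul, pc_trCls, toPic_rigMap]

theorem shift_injective {T : Over (Spec (CommRingCat.of k))} (a : Word f) :
    Function.Injective fun c : PicF.Rig f σ hσ T => shift f hdim σ hσ c a := fun c c' h => by
  have h' : toPic c * trCls f hdim σ hσ T a = toPic c' * trCls f hdim σ hσ T a := congrArg toPic h
  exact toPic_injective (mul_right_cancel h')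

include hdim hg in
/-- The open set where a translate is good. -/
theorem isOpen_good_shift {T : Over (Spec (CommRingCat.of k))} (c : PicF.Rig f σ hσ T) (a : Word f) :
    IsOpen {t : T.left | PicTan20.degCl f T t (shift f hdim σ hσ c a).1 = g ∧
      h1Cl f T t (shift f hdim σ hσ c a).1 = 0} :=
  isOpen_good f (fun s => (fiber_dim f hdim s).le) T (shift f hdim σ hσ c a).2.1 g

/-- The open set where a translate is good. -/
def goodOpen {T : Over (Spec (CommRingCat.of k))} (c : PicF.Rig f σ hσ T) (a : Word f) : T.left.Opens :=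
  ⟨_, isOpen_good_shift f hdim σ hσ hg c a⟩

theorem mem_goodOpen_map {T T' : Over (Spec (CommRingCat.of k))} (j : T' ⟶ T) (c : PicF.Rig f σ hσ T) (a : Word f)
    (y : T'.left) : j.left y ∈ goodOpen f hdim σ hσ hg c a ↔
      PicTan20.degCl f T' y (shift f hdim σ hσ (rigMap j c) a).1 = g ∧
        h1Cl f T' y (shift f hdim σ hσ (rigMap j c) a).1 = 0 := by
  rw [shift_map]
  show _ ↔ PicTan20.degCl f T' y (PicF.pullCl (PicF.XTmap f j) _) = _ ∧
    h1Cl f T' y (PicF.pullCl (PicF.XTmap f j) _) = 0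
  rw [PicTan20.degCl_pull f j y (shift f hdim σ hσ c a).2.1, h1Cl_pull f j y (shift f hdim σ hσ c a).2.1]
  exact Iff.rfl

include huniv in
theorem exists_hom_of_mem {T : Over (Spec (CommRingCat.of k))} (c : PicF.Rig f σ hσ T) (a : Word f)
    {T' : Over (Spec (CommRingCat.of k))} (j : T' ⟶ T) (hj : ∀ y, j.left y ∈ goodOpen f hdim σ hσ hg c a) :
    ∃ h : T' ⟶ V, PicF.pullCl (PicF.XTmap f h) ξ = (shift f hdim σ hσ (rigMap j c) a).1 :=
  (huniv T' _ (shift f hdim σ hσ (rigMap j c) a).2.1 (shift f hdim σ hσ (rigMap j c) a).2.2 fun y =>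
    (mem_goodOpen_map f hdim σ hσ hg j c a y).1 (hj y)).exists

include hdim hcover hg huniv in
theorem small_rig (T : Over (Spec (CommRingCat.of k))) : Small.{u} (PicF.Rig f σ hσ T) := by
  let Φ : PicF.Rig f σ hσ T → Set (Σ W : T.left.Opens, Σ _ : Word f, (AbDual.ovr T W.ι ⟶ V)) := fun c =>
    {d | PicF.pullCl (PicF.XTmap f d.2.2) ξ = (shift f hdim σ hσ (rigMap (AbDual.ovrHom T d.1.ι) c) d.2.1).1}
  refine small_of_injective (f := Φ) fun c c' hcc => ?_
  choose a ha using fun t => hcover T (toPic c) t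
  let O := fun t => goodOpen f hdim σ hσ hg c (a t)
  refine rig_ext (fun t => (O t).ι) (fun t => ⟨t, ⟨t, ha t⟩, rfl⟩) fun t => ?_
  obtain ⟨h, hh⟩ := exists_hom_of_mem f hdim σ hσ hg huniv c (a t) (AbDual.ovrHom T (O t).ι) fun y => y.2
  have hd : (⟨O t, a t, h⟩ : Σ W : T.left.Opens, Σ _ : Word f, (AbDual.ovr T W.ι ⟶ V)) ∈ Φ c' := hcc ▸ hh
  exact congrArg Subtype.val (shift_injective f hdim σ hσ (a t) (Subtype.ext (hh.symm.trans hd)))

section Functor

variable [∀ T : Over (Spec (CommRingCat.of k)), Small.{u} (PicF.Rig f σ hσ T)]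

/-- The rigidified Picard functor with small values. -/
def rigFunctor : (Over (Spec (CommRingCat.of k)))ᵒᵖ ⥤ Type u where
  obj T := Shrink.{u} (PicF.Rig f σ hσ T.unop)
  map j := TypeCat.ofHom fun c => equivShrink _ (rigMap j.unop ((equivShrink _).symm c))
  map_id T := by
    apply ConcreteCategory.hom_ext
    intro c
    show equivShrink _ (rigMap (𝟙 T.unop) _) = c
    rw [show rigMap (𝟙 T.unop) ((equivShrink _).symm c) = (equivShrink _).symm c from Subtype.ext (by
      show PicF.pullCl (PicF.XTmap f (𝟙 T.unop)) _ = _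
      rw [HilbBC25.XTmap_id, PicLoc.pullCl_id]), Equiv.apply_symm_apply]
  map_comp {T T' T''} j j' := by
    apply ConcreteCategory.hom_ext
    intro c
    show equivShrink _ (rigMap (j'.unop ≫ j.unop) _) =
      equivShrink _ (rigMap j'.unop ((equivShrink _).symm (equivShrink _ (rigMap j.unop _))))
    rw [Equiv.symm_apply_apply]
    exact congrArg _ (Subtype.ext (RigDesc22.pullCl_XTmap f j'.unop j.unop _).symm)

theorem rigFunctor_map {T T' : Over (Spec (CommRingCat.of k))} (j : T' ⟶ T) (c : PicF.Rig f σ hσ T) :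
    (rigFunctor f σ hσ).map j.op (equivShrink _ c) = equivShrink _ (rigMap j c) :=
  congrArg (fun x => equivShrink _ (rigMap j x)) ((equivShrink _).symm_apply_apply c)

theorem isZarSheaf_rigFunctor : OverRep16.IsZarSheaf (rigFunctor f σ hσ) := by
  intro T 𝒰 x hx
  let i : T.left → 𝒰.I₀ := fun t => (𝒰.exists_eq t).choose
  have hi : ∀ t, t ∈ Set.range (𝒰.f (i t)) := fun t => (𝒰.exists_eq t).choose_spec
  let c : ∀ l, PicF.Rig f σ hσ (AbDual.ovr T (𝒰.f l)) := fun l => (equivShrink _).symm (x l)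
  have hc : ∀ (l l' : 𝒰.I₀) (T' : Over (Spec (CommRingCat.of k))) (a : T' ⟶ AbDual.ovr T (𝒰.f l))
      (b : T' ⟶ AbDual.ovr T (𝒰.f l')), a.left ≫ 𝒰.f l = b.left ≫ 𝒰.f l' → rigMap a (c l) = rigMap b (c l') :=
    fun l l' T' a b h => (equivShrink _).injective (hx l l' T' a b h)
  have hfppf : Presieve.ofArrows (fun t => 𝒰.X (i t)) (fun t => 𝒰.f (i t)) ∈ Scheme.fppfPrecoverage T.left :=
    PicDesc21.mem_fppf_iff.2 ⟨fun t => by
      obtain ⟨z, hz⟩ := hi t
      exact ⟨t, z, hz⟩, fun t => ⟨inferInstance, inferInstance⟩⟩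
  obtain ⟨d, hd, hdr, hdc⟩ := RigDesc22.exists_descended_cl f σ hσ (bijective_appTop_proj f) hfppf
    (fun t => (c (i t)).1) (fun t => (c (i t)).2.1) (fun t => (c (i t)).2.2)
    fun t t' W a b h => congrArg Subtype.val (hc (i t) (i t') W a b h)
  let y : PicF.Rig f σ hσ T := ⟨d, hd, hdr⟩
  have hy : ∀ l, rigMap (AbDual.ovrHom T (𝒰.f l)) y = c l := fun l => by
    let T₁ := AbDual.ovr T (𝒰.f l)
    refine rig_ext (fun t => pullback.fst (𝒰.f l) (𝒰.f (i t))) (fun z => ?_) fun t => ?_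
    · obtain ⟨w, hw⟩ := hi (𝒰.f l z)
      obtain ⟨v, hv, -⟩ := Scheme.Pullback.exists_preimage_pullback (f := 𝒰.f l) (g := 𝒰.f (i (𝒰.f l z))) z w hw.symm
      exact ⟨𝒰.f l z, v, hv⟩
    · let W := AbDual.ovr T₁ (pullback.fst (𝒰.f l) (𝒰.f (i t)))
      let b : W ⟶ AbDual.ovr T (𝒰.f (i t)) := Over.homMk (pullback.snd (𝒰.f l) (𝒰.f (i t)))
        (show pullback.snd (𝒰.f l) (𝒰.f (i t)) ≫ 𝒰.f (i t) ≫ T.hom = pullback.fst _ _ ≫ 𝒰.f l ≫ T.hom by
          rw [← pullback.condition_assoc])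
      show PicF.pullCl _ (PicF.pullCl _ d) = PicF.pullCl _ (c l).1
      refine Eq.trans ?_ (congrArg Subtype.val (hc (i t) l W b (AbDual.ovrHom T₁ _) pullback.condition.symm))
      show _ = PicF.pullCl (PicF.XTmap f b) (c (i t)).1
      rw [← hdc t, RigDesc22.pullCl_XTmap, RigDesc22.pullCl_XTmap]
      exact congrArg (fun j => PicF.pullCl (PicF.XTmap f j) d) (Over.OverMorphism.ext pullback.condition)
  refine ⟨equivShrink _ y, fun l => (rigFunctor_map f σ hσ _ y).trans
    ((congrArg _ (hy l)).trans ((equivShrink _).apply_symm_apply _)), fun z hz => ?_⟩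
  obtain ⟨z, rfl⟩ := (equivShrink _).surjective z
  refine congrArg _ (rig_ext (fun t => 𝒰.f (i t)) (fun t => ⟨t, hi t⟩) fun t => ?_)
  have h1 := (rigFunctor_map f σ hσ (AbDual.ovrHom T (𝒰.f (i t))) z).symm.trans (hz (i t))
  exact (congrArg Subtype.val ((Equiv.apply_eq_iff_eq_symm_apply _).1 h1)).trans (hdc t).symm

/-- The universal class of a chart. -/
def chartCls (a : Word f) : PicF.Rig f σ hσ V :=
  mkRig (⟨ξ, hξ⟩ * (trCls f hdim σ hσ V a)⁻¹) (by
    rw [map_mul, map_inv, pc_sec_trCls, inv_one, mul_one]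
    exact Subtype.ext (hξr.trans PicGrp.one_val.symm))

omit [∀ T : Over (Spec (CommRingCat.of k)), Small.{u} (PicF.Rig f σ hσ T)] in
theorem rigMap_chartCls_iff {T T' : Over (Spec (CommRingCat.of k))} (h : T' ⟶ V) (j : T' ⟶ T)
    (c : PicF.Rig f σ hσ T) (a : Word f) :
    rigMap h (chartCls f hdim σ hσ hξ hξr a) = rigMap j c ↔
      PicF.pullCl (PicF.XTmap f h) ξ = (shift f hdim σ hσ (rigMap j c) a).1 := by
  rw [← toPic_injective.eq_iff, toPic_rigMap]
  show pc (PicF.XTmap f h) (⟨ξ, hξ⟩ * (trCls f hdim σ hσ V a)⁻¹) = toPic (rigMap j c) ↔ _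
  rw [map_mul, map_inv, pc_trCls, mul_inv_eq_iff_eq_mul]
  exact ⟨fun e => congrArg (fun x : PicLoc.PicSet (PicF.XT f T') => x.1) e, fun e => Subtype.ext e⟩

/-- The chart of a word. -/
def chart (a : Word f) : OverRep16.Chart (rigFunctor f σ hσ) where
  U := V
  Z := equivShrink _ (chartCls f hdim σ hσ hξ hξr a)
  eq_of_map_eq {T} h h' e := by
    rw [rigFunctor_map, rigFunctor_map, (equivShrink _).apply_eq_iff_eq] at e
    have e' : pc (PicF.XTmap f h) (⟨ξ, hξ⟩ * (trCls f hdim σ hσ V a)⁻¹) =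
        pc (PicF.XTmap f h') (⟨ξ, hξ⟩ * (trCls f hdim σ hσ V a)⁻¹) := congrArg toPic e
    rw [map_mul, map_mul, map_inv, map_inv, pc_trCls, pc_trCls, mul_left_inj] at e'
    exact (huniv T _ (PicDesc21.isInvertibleCl_pull _ hξ) (RigDesc22.trivial_pull f σ hσ h' hξr)
      (Good.pull f h' hξ hξg)).unique (congrArg Subtype.val e') rfl
  exists_locus T Z' := by
    obtain ⟨c, rfl⟩ := (equivShrink _).surjective Z'
    refine ⟨goodOpen f hdim σ hσ hg c a, fun {T'} j => ?_⟩
    have key : ∀ h : T' ⟶ V, (rigFunctor f σ hσ).map h.op (equivShrink _ (chartCls f hdim σ hσ hξ hξr a)) =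
        (rigFunctor f σ hσ).map j.op (equivShrink _ c) ↔
        PicF.pullCl (PicF.XTmap f h) ξ = (shift f hdim σ hσ (rigMap j c) a).1 := fun h => by
      rw [rigFunctor_map, rigFunctor_map, (equivShrink _).apply_eq_iff_eq]
      exact rigMap_chartCls_iff f hdim σ hσ hξ hξr h j c a
    constructor
    · intro hj
      obtain ⟨h, hh⟩ := exists_hom_of_mem f hdim σ hσ hg huniv c a j hj
      exact ⟨h, (key h).2 hh⟩
    · rintro ⟨h, hh⟩ y
      rw [mem_goodOpen_map, ← (key h).1 hh]
      exact Good.pull f h hξ hξg y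

include hdim hcover hg hξ hξr hξg huniv in
theorem rigRepresentable_of_small : PicF.RigRepresentable f σ hσ := by
  obtain ⟨P, ⟨e⟩⟩ := OverRep16.representable_of_charts (isZarSheaf_rigFunctor f σ hσ)
    (fun a : Word f => chart f hdim σ hσ hg hξ hξr hξg huniv a) fun T Z t => by
      obtain ⟨c, rfl⟩ := (equivShrink _).surjective Z
      obtain ⟨a, ha⟩ := hcover T (toPic c) t
      let O := goodOpen f hdim σ hσ hg c a
      obtain ⟨h, hh⟩ := exists_hom_of_mem f hdim σ hσ hg huniv c a (AbDual.ovrHom T O.ι) fun y => y.2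
      refine ⟨a, O, ha, h, ?_⟩
      show (rigFunctor f σ hσ).map h.op (equivShrink _ (chartCls f hdim σ hσ hξ hξr a)) =
        (rigFunctor f σ hσ).map (AbDual.ovrHom T O.ι).op (equivShrink _ c)
      rw [rigFunctor_map, rigFunctor_map, (equivShrink _).apply_eq_iff_eq]
      exact (rigMap_chartCls_iff f hdim σ hσ hξ hξr h _ c a).2 hh
  let u := (equivShrink _).symm (e.homEquiv (𝟙 P))
  refine ⟨P, u, fun T c => ?_⟩
  have he : ∀ h : T ⟶ P, (equivShrink _).symm (e.homEquiv h) = rigMap h u := fun h => by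
    rw [e.homEquiv_eq h]
    exact (equivShrink _).symm_apply_apply _
  refine ⟨e.homEquiv.symm (equivShrink _ c), ?_, fun h hh => ?_⟩
  · refine congrArg Subtype.val ((he _).symm.trans ?_)
    rw [Equiv.apply_symm_apply, Equiv.symm_apply_apply]
  · rw [Equiv.eq_symm_apply, ← (equivShrink _).symm.apply_eq_iff_eq, Equiv.symm_apply_apply, he]
    exact Subtype.ext hh

end Functor

include hdim hcover hg hξ hξr hξg huniv in
/-- A representing scheme is covered by open pieces of the chart. -/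
theorem locallyOfFiniteType_of_rep [LocallyOfFiniteType V.hom] {P : Over (Spec (CommRingCat.of k))}
    {u : PicF.Rig f σ hσ P} (hu : ∀ (T : Over (Spec (CommRingCat.of k))) (c : PicF.Rig f σ hσ T),
      ∃! g : T ⟶ P, PicF.pullCl (PicF.XTmap f g) u.1 = c.1) : LocallyOfFiniteType P.hom := by
  choose a ha using fun p : P.left => hcover P (toPic u) p
  let O := fun p => goodOpen f hdim σ hσ hg u (a p)
  have hO : iSup O = ⊤ := top_le_iff.1 fun p _ => Opens.mem_iSup.2 ⟨p, ha p⟩
  refine (IsZariskiLocalAtSource.iff_of_openCover (P := @LocallyOfFiniteType)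
    (P.left.openCoverOfIsOpenCover O hO)).2 fun (p : P.left) => ?_
  show LocallyOfFiniteType ((O p).ι ≫ P.hom)
  let i := AbDual.ovrHom P (O p).ι
  obtain ⟨h, hh⟩ := exists_hom_of_mem f hdim σ hσ hg huniv u (a p) i fun y => y.2
  let cc := chartCls f hdim σ hσ hξ hξr (a p)
  obtain ⟨e, he, -⟩ := hu V cc
  have hkey : ∀ {T : Over (Spec (CommRingCat.of k))} {x y : T ⟶ P}, rigMap x u = rigMap y u → x = y :=
    fun {T x y} h => (hu T (rigMap y u)).unique (congrArg Subtype.val h) rfl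
  have hhe : h ≫ e = i := by
    refine hkey (Subtype.ext ?_)
    show PicF.pullCl (PicF.XTmap f (h ≫ e)) u.1 = _
    rw [← RigDesc22.pullCl_XTmap f h e, he]
    exact congrArg Subtype.val ((rigMap_chartCls_iff f hdim σ hσ hξ hξr h i u (a p)).2 hh)
  have hmem : ∀ y, e.left y ∈ O p := fun y => by
    refine (mem_goodOpen_map f hdim σ hσ hg e u (a p) y).2 ?_
    have h1 : rigMap (𝟙 V) cc = rigMap e u := Subtype.ext (by
      show PicF.pullCl (PicF.XTmap f (𝟙 V)) cc.1 = _
      rw [HilbBC25.XTmap_id, PicLoc.pullCl_id]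
      exact he.symm)
    have h2 := (rigMap_chartCls_iff f hdim σ hσ hξ hξr (𝟙 V) e u (a p)).1 h1
    rw [HilbBC25.XTmap_id, PicLoc.pullCl_id] at h2
    rw [← h2]
    exact hξg y
  let l : V ⟶ AbDual.ovr P (O p).ι := Over.homMk (IsOpenImmersion.lift (O p).ι e.left (by
      rintro _ ⟨y, rfl⟩
      exact ⟨⟨e.left y, hmem y⟩, rfl⟩))
    (show IsOpenImmersion.lift (O p).ι e.left _ ≫ (O p).ι ≫ P.hom = V.hom by
      rw [← Category.assoc, IsOpenImmersion.lift_fac]; exact Over.w e)
  have hl : l ≫ i = e := Over.OverMorphism.ext (IsOpenImmersion.lift_fac _ _ _)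
  have h1 : h ≫ l = 𝟙 _ := by
    refine Over.OverMorphism.ext ((cancel_mono (O p).ι).1 ?_)
    show (h ≫ l ≫ i).left = (𝟙 _ ≫ i).left
    rw [hl, hhe, Category.id_comp]
  have h2 : l ≫ h = 𝟙 V := by
    refine (huniv V ξ hξ hξr hξg).unique ?_ (by rw [HilbBC25.XTmap_id, PicLoc.pullCl_id])
    have h3 : rigMap (l ≫ h) cc = rigMap (𝟙 V) cc := Subtype.ext (by
      show PicF.pullCl (PicF.XTmap f (l ≫ h)) cc.1 = PicF.pullCl (PicF.XTmap f (𝟙 V)) cc.1
      rw [← he, RigDesc22.pullCl_XTmap, RigDesc22.pullCl_XTmap, Category.assoc, hhe, hl, Category.id_comp])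
    have h4 := (rigMap_chartCls_iff f hdim σ hσ hξ hξr (l ≫ h) (𝟙 V) cc (a p)).1 h3
    have h5 := (rigMap_chartCls_iff f hdim σ hσ hξ hξr (𝟙 V) (𝟙 V) cc (a p)).1 rfl
    rw [h4, ← h5, HilbBC25.XTmap_id, PicLoc.pullCl_id]
  haveI : IsIso h.left := ⟨l.left, congrArg CommaMorphism.left h1, congrArg CommaMorphism.left h2⟩
  rw [show (O p).ι ≫ P.hom = h.left ≫ V.hom from (Over.w h).symm]
  infer_instance

include hdim hcover hg in
/-- The rigidified Picard functor is representable when translates cover it. -/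
theorem exists_rep_of_cover : ∃ (P : Over (Spec (CommRingCat.of k))) (u : PicF.Rig f σ hσ P),
    LocallyOfFiniteType P.hom ∧ ∀ (T : Over (Spec (CommRingCat.of k))) (c : PicF.Rig f σ hσ T),
      ∃! g : T ⟶ P, PicF.pullCl (PicF.XTmap f g) u.1 = c.1 := by
  obtain ⟨V, ξ, hV, hξ, hξr, hξg, huniv⟩ := exists_chart f hdim hg σ hσ
  haveI : ∀ T, Small.{u} (PicF.Rig f σ hσ T) := small_rig f hdim σ hσ hcover hg huniv
  obtain ⟨P, u, hu⟩ := rigRepresentable_of_small f hdim σ hσ hcover hg hξ hξr hξg huniv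
  haveI := hV
  exact ⟨P, u, locallyOfFiniteType_of_rep f hdim σ hσ hcover hg hξ hξr hξg huniv hu, hu⟩

omit hcover in
include hdim hg in
/-- Over a separably closed field the rigidified Picard functor is represented by a scheme of locally finite type. -/
theorem exists_rep [IsSepClosed k] : ∃ (P : Over (Spec (CommRingCat.of k))) (u : PicF.Rig f σ hσ P),
    LocallyOfFiniteType P.hom ∧ ∀ (T : Over (Spec (CommRingCat.of k))) (c : PicF.Rig f σ hσ T),
      ∃! g : T ⟶ P, PicF.pullCl (PicF.XTmap f g) u.1 = c.1 :=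
  exists_rep_of_cover f hdim σ hσ (fun T c t => exists_good_at f hdim σ hσ hg T c t) hg

omit hcover in
include hdim hg in
/-- The rigidified Picard functor is representable. -/
theorem rigRepresentable [IsSepClosed k] : PicF.RigRepresentable f σ hσ := by
  obtain ⟨P, u, -, hu⟩ := exists_rep f hdim σ hσ hg
  exact ⟨P, u, hu⟩

end Groth.Agent.PicRep20
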