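import Groth.Agent.Lib.PicRep20.Chart
import Groth.Agent.Lib.PicRep20.Cover

/-!
# Translations by words in the rational points
-/

set_option autoImplicit false
set_option linter.style.haveILetI false
set_option linter.unusedSectionVars false
set_option maxHeartbeats 2000000
set_option backward.isDefEq.respectTransparency false
set_option backward.isDefEq.respectTransparency.types false

universe u

open CategoryTheory CategoryTheory.Limits AlgebraicGeometry TopologicalSpace

noncomputable section

namespace Groth.Agent.PicRep20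

open Groth.Agent.Abel10 (pc pc_comp pc_id)

noncomputable local instance instLawTranslate (Y : Scheme.{u}) : PicGrp.Law Y := M2.law Y

variable {k : Type u} [Field k] {X : Scheme.{u}} (f : X ⟶ Spec (CommRingCat.of k)) [IsProper f] [Smooth f]
  [GeometricallyConnected f] [IsIntegral X] (hdim : topologicalKrullDim X = 1)
  (σ : Spec (CommRingCat.of k) ⟶ X) (hσ : σ ≫ f = 𝟙 _)

/-- Words in the rational points. -/
abbrev Word : Type u := ℕ × List {x : Spec (CommRingCat.of k) ⟶ X // x ≫ f = 𝟙 _}

/-- The class of a word, based at the given point. -/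
def wordOf (a : Word f) : PicLoc.PicSet X :=
  letI : X.Over (Spec (CommRingCat.of k)) := ⟨f⟩
  haveI : IsProper (X ↘ Spec (CommRingCat.of k)) := ‹IsProper f›
  haveI : Smooth (X ↘ Spec (CommRingCat.of k)) := ‹Smooth f›
  wordCls hdim ⟨σ, hσ⟩ a

/-- The translation class on a base change. -/
def trCls (T : Over (Spec (CommRingCat.of k))) (a : Word f) : PicLoc.PicSet (PicF.XT f T) :=
  pc (pullback.fst f T.hom) (wordOf f hdim σ hσ a)

theorem pc_trCls {T T' : Over (Spec (CommRingCat.of k))} (g : T' ⟶ T) (a : Word f) :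
    pc (PicF.XTmap f g) (trCls f hdim σ hσ T a) = trCls f hdim σ hσ T' a :=
  pc_comp _ _ (HilbBC25.XTmap_fst f g) _

/-- Every invertible class on the spectrum of a field is trivial. -/
theorem eq_one_spec (c : PicLoc.PicSet (Spec (CommRingCat.of k))) : c = 1 := by
  haveI : Subsingleton (Spec (CommRingCat.of k)) := inferInstanceAs (Subsingleton (PrimeSpectrum k))
  obtain ⟨U, hU, hc⟩ := exists_open_trivial c.2 (IsLocalRing.closedPoint k)
  obtain rfl : U = ⊤ := top_le_iff.1 fun y _ => Subsingleton.elim (IsLocalRing.closedPoint k) y ▸ hU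
  refine Subtype.ext ?_
  rw [PicGrp.one_val]
  have h := PicDesc21.pullCl_trivial (Spec (CommRingCat.of k)).topIso.inv hc
  rwa [PicDesc21.pullCl_pullCl, show (Spec (CommRingCat.of k)).topIso.inv ≫ (⊤ : (Spec (CommRingCat.of k)).Opens).ι =
    𝟙 _ from (Spec (CommRingCat.of k)).topIso.inv_hom_id, PicLoc.pullCl_id] at h

theorem pc_sec_trCls (T : Over (Spec (CommRingCat.of k))) (a : Word f) :
    pc (PicF.secT f σ hσ T) (trCls f hdim σ hσ T a) = 1 := by
  have h : PicF.secT f σ hσ T ≫ pullback.fst f T.hom = T.hom ≫ σ := pullback.lift_fst _ _ _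
  rw [trCls, pc_comp (PicF.secT f σ hσ T) _ h, ← pc_comp T.hom σ rfl, eq_one_spec (pc σ _), map_one]

include hdim σ hσ in
/-- Near every point some translation makes a class good. -/
theorem exists_good_at [IsSepClosed k] {g : ℕ}
    (hg : letI : X.Over (Spec (CommRingCat.of k)) := ⟨f⟩; Curv2.genus k X = g)
    (T : Over (Spec (CommRingCat.of k))) (c : PicLoc.PicSet (PicF.XT f T)) (t : T.left) :
    ∃ a : Word f, PicTan20.degCl f T t (c * trCls f hdim σ hσ T a).1 = g ∧
      h1Cl f T t (c * trCls f hdim σ hσ T a).1 = 0 := by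
  obtain ⟨M, hM, rfl⟩ := PicGrp.exists_eq_cls c
  let p := PicF.XTproj f T
  haveI : IsProper p := inferInstanceAs (IsProper (pullback.snd f T.hom))
  haveI : Smooth p := inferInstanceAs (Smooth (pullback.snd f T.hom))
  haveI : GeometricallyConnected p := inferInstanceAs (GeometricallyConnected (pullback.snd f T.hom))
  letI : X.Over (Spec (CommRingCat.of k)) := ⟨f⟩
  haveI : IsProper (X ↘ Spec (CommRingCat.of k)) := ‹IsProper f›
  haveI : Smooth (X ↘ Spec (CommRingCat.of k)) := ‹Smooth f›
  let K := T.left.residueField t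
  letI : (p.fiber t).Over (Spec (CommRingCat.of K)) := ⟨p.fiberToSpecResidueField t⟩
  have sq : IsPullback (p.fiberι t) (p.fiber t ↘ Spec (CommRingCat.of K)) p (T.left.fromSpecResidueField t) :=
    IsPullback.of_hasPullback _ _
  haveI := Abel10.isProper_fieldPt sq
  haveI := Abel10.smooth_fieldPt sq
  haveI := Abel10.geometricallyConnected_fieldPt sq
  haveI := Abel10.isIntegral_fieldPt sq
  haveI : GeometricallyReduced (p.fiber t ↘ Spec (CommRingCat.of K)) :=
    GeomRed.geometricallyReduced_of_smooth (k := K) (X := p.fiber t)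
  letI : Algebra k K := (Spec.preimage (T.left.fromSpecResidueField t ≫ T.hom)).hom.toAlgebra
  have hpb : IsPullback (p.fiberι t ≫ pullback.fst f T.hom) (p.fiber t ↘ Spec (CommRingCat.of K))
      (X ↘ Spec (CommRingCat.of k)) (Spec.map (CommRingCat.ofHom (algebraMap k K))) := by
    rw [show Spec.map (CommRingCat.ofHom (algebraMap k K)) = T.left.fromSpecResidueField t ≫ T.hom from
      Spec.map_preimage _]
    exact sq.paste_horiz (IsPullback.of_hasPullback f T.hom)
  have hMt := PicLoc.isInvertible_pullback (p.fiberι t) hM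
  obtain ⟨a, L₀, h₀, hword, hdeg, h1⟩ := exists_word hpb hdim
    (Abel10.topologicalKrullDim_fiber_snd f T.hom (fiber_dim f hdim) t) ⟨σ, hσ⟩
    (S1536.result K (p.fiber t)) _ hMt
  let M' := CohB1.tensorMod M ((Scheme.Modules.pullback (pullback.fst f T.hom)).obj L₀)
  have hM' : PicF.IsInvertible M' := M2.isInvertible_tensor hM (PicLoc.isInvertible_pullback _ h₀)
  have hval : (PicGrp.cls M hM * trCls f hdim σ hσ T a).1 = PicF.cl M' := by
    rw [trCls, show wordOf f hdim σ hσ a = PicGrp.cls L₀ h₀ from hword.symm, pc, PicGrp.pullHom_cls,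
      AlgEquiv22.cls_tensor hM (PicLoc.isInvertible_pullback _ h₀)]
    rfl
  let i : (Scheme.Modules.pullback (p.fiberι t)).obj M' ≅ CohB1.tensorMod ((Scheme.Modules.pullback (p.fiberι t)).obj M)
      ((Scheme.Modules.pullback (p.fiberι t ≫ pullback.fst f T.hom)).obj L₀) :=
    M2.pullTensorIso _ _ _ ≪≫ M2.tensorIso (Iso.refl _) ((Scheme.Modules.pullbackComp _ _).app L₀)
  refine ⟨a, ?_, ?_⟩
  · rw [hval, ← deg_fibre f hdim T t hM', CurveCoh17.deg_iso i]
    refine hdeg.trans ?_
    exact_mod_cast (genus_fibre f T t).trans hg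
  · rw [hval, ← h1_fibre f T t hM']
    haveI := h1
    exact (CurveCoh17.hequiv K i 1).toEquiv.subsingleton

end Groth.Agent.PicRep20
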