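import Groth.Agent.Lib.PicRep20.Divisor
import Groth.Agent.Lib.Abel10.Main
import Groth.Agent.Lib.Abel10.DegOneNhd
import Groth.Agent.Lib.Abel10.PushGen

/-!
# Divisors in linear systems of dimension zero are unique
-/

set_option autoImplicit false
set_option linter.style.haveILetI false
set_option linter.unusedSectionVars false
set_option maxHeartbeats 1000000
set_option backward.isDefEq.respectTransparency false
set_option backward.isDefEq.respectTransparency.types false

universe u

open CategoryTheory CategoryTheory.Limits AlgebraicGeometry TopologicalSpace Opposite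

noncomputable section

namespace Groth.Agent.PicRep20

open Groth.Agent.Abel10 Groth.Agent.ModLimH13 Groth.Agent.CurveCoh17

section Field

variable {K : Type u} [Field K] {Z : Scheme.{u}} (p : Z ⟶ Spec (CommRingCat.of K)) [IsProper p] [Smooth p]
  [GeometricallyConnected p]

/-- Without `H¹` in the degree of the genus the sections are the multiples of any nonzero one. -/
theorem bijective_smul_of_h1 (hdim : topologicalKrullDim Z = 1) {L : Z.Modules} (hL : PicF.IsInvertible L)
    {g : ℕ} (hg : letI : Z.Over (Spec (CommRingCat.of K)) := ⟨p⟩; Curv2.genus K Z = g)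
    (hd : letI : Z.Over (Spec (CommRingCat.of K)) := ⟨p⟩; Curv2.deg K Z L 1 = g)
    (h1 : letI : Z.Over (Spec (CommRingCat.of K)) := ⟨p⟩; Subsingleton (Coh.HH Z L 1))
    {σ : Γ(L, (⊤ : Z.Opens))} (hσ : σ ≠ 0) :
    Function.Bijective fun c : Γ(Spec (CommRingCat.of K), ⊤) => p.appTop c • σ := by
  letI : Z.Over (Spec (CommRingCat.of K)) := ⟨p⟩
  haveI : IsProper (Z ↘ Spec (CommRingCat.of K)) := ‹IsProper p›
  haveI : Smooth (Z ↘ Spec (CommRingCat.of K)) := ‹Smooth p›
  haveI : GeometricallyConnected (Z ↘ Spec (CommRingCat.of K)) := ‹GeometricallyConnected p›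
  haveI := VB17.isIntegral_of_smooth (k := K) (X := Z)
  haveI := GeomRed.geometricallyReduced_of_smooth (k := K) (X := Z)
  have hX := VB17.curveLike (k := K) hdim
  haveI := hX.noetherian
  haveI := h1
  have h0 := S1536.result K Z
  have hR := rkOne_of_invertible hdim.le hL
  have h2 : Module.finrank K (Coh.HH Z L 0) = 1 := by
    have hrr := hX.rr hR.coh
    rw [h0, hd, hg, Module.finrank_zero_of_subsingleton (M := Coh.HH Z L 1)] at hrr
    omega
  let z := (hh0 L).symm σ
  have hz : z ≠ 0 := fun h => hσ (by rw [← (hh0 L).apply_symm_apply σ]; exact (congrArg _ h).trans (map_zero _))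
  have hb := (finrank_eq_one_iff_of_nonzero' z hz).1 h2
  have key : ∀ c : K, hh0 L (c • z) = p.appTop ((Scheme.ΓSpecIso (CommRingCat.of K)).inv c) • σ := fun c => by
    refine (hh0_smul _ _).trans ?_
    rw [AddEquiv.apply_symm_apply]
    rfl
  refine ⟨fun a b hab => ?_, fun m => ?_⟩
  · obtain ⟨a', rfl⟩ := (ConcreteCategory.bijective_of_isIso (Scheme.ΓSpecIso (CommRingCat.of K)).inv).2 a
    obtain ⟨b', rfl⟩ := (ConcreteCategory.bijective_of_isIso (Scheme.ΓSpecIso (CommRingCat.of K)).inv).2 b
    by_contra hne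
    have hne' : a' - b' ≠ 0 := sub_ne_zero.2 fun h => hne (h ▸ rfl)
    refine hz ((smul_eq_zero_iff_right hne').1 ?_)
    rw [sub_smul, sub_eq_zero]
    exact (hh0 L).injective ((key a').trans (hab.trans (key b').symm))
  · obtain ⟨c, hc⟩ := hb ((hh0 L).symm m)
    exact ⟨_, (key c).symm.trans ((congrArg (hh0 L) hc).trans ((hh0 L).apply_symm_apply m))⟩

end Field

variable {X T : Scheme.{u}} (p : X ⟶ T) [IsProper p] [Smooth p] [GeometricallyConnected p]
  (hdim : ∀ t : T, topologicalKrullDim ↥(p.fiber t) = 1) {g : ℕ}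
  (hg : ∀ t : T, letI : (p.fiber t).Over (Spec (CommRingCat.of (T.residueField t))) := ⟨p.fiberToSpecResidueField t⟩
    Curv2.genus (T.residueField t) (p.fiber t) = g)

/-- The square of a closed subscheme over a fibre. -/
theorem isFinLocFreeOfDeg_fiber {J : X.IdealSheafData} {d : ℕ}
    (hJ : Mor2.IsFinLocFreeOfDeg d (J.subschemeι ≫ p)) (t : T) :
    Mor2.IsFinLocFreeOfDeg d ((J.comap (p.fiberι t)).subschemeι ≫ p.fiberToSpecResidueField t) := by
  have sq : IsPullback (p.fiberι t) (p.fiberToSpecResidueField t) p (T.fromSpecResidueField t) :=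
    IsPullback.of_hasPullback _ _
  have hw : IsPullback ((J.comapIso (p.fiberι t)).hom ≫ pullback.snd _ _) (J.comap (p.fiberι t)).subschemeι
      J.subschemeι (p.fiberι t) :=
    (IsPullback.of_hasPullback (p.fiberι t) J.subschemeι).flip.of_iso (J.comapIso (p.fiberι t)).symm
      (Iso.refl _) (Iso.refl _) (Iso.refl _)
      (by rw [Iso.symm_hom, Iso.refl_hom, Category.comp_id, Iso.inv_hom_id_assoc]) (by simp) (by simp) (by simp)
  exact HilbBC25.isFinLocFreeOfDeg_of_isPullback (hw.paste_vert sq) hJ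

include hdim hg in
/-- The zero divisor in a zero dimensional linear system is at most any other divisor of the system. -/
theorem le_of_iso {L L' : X.Modules} (hL : PicF.IsInvertible L) (hL' : PicF.IsInvertible L') (e : L ≅ L')
    {J J' : X.IdealSheafData} {s : Γ(L, (⊤ : X.Opens))} {s' : Γ(L', (⊤ : X.Opens))} (hs : LocEq L J s)
    (hs' : LocEq L' J' s') (hJ' : Mor2.IsFinLocFreeOfDeg g (J'.subschemeι ≫ p))
    (h1 : ∀ t : T, letI : (p.fiber t).Over (Spec (CommRingCat.of (T.residueField t))) := ⟨p.fiberToSpecResidueField t⟩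
      Subsingleton (Coh.HH (p.fiber t) ((Scheme.Modules.pullback (p.fiberι t)).obj L') 1)) :
    J ≤ J' := by
  have hbij : ∀ t : T, Function.Bijective fun c : Γ(Spec (T.residueField t), ⊤) =>
      (p.fiberToSpecResidueField t).appTop c • res' (p.fiberι t) L' (W := ⊤) (W' := ⊤) le_top s' := fun t => by
    letI : (p.fiber t).Over (Spec (CommRingCat.of (T.residueField t))) := ⟨p.fiberToSpecResidueField t⟩
    have sq : IsPullback (p.fiberι t) (p.fiber t ↘ Spec (CommRingCat.of (T.residueField t))) p (T.fromSpecResidueField t) :=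
      IsPullback.of_hasPullback _ _
    haveI := isProper_fieldPt sq
    haveI := smooth_fieldPt sq
    haveI := geometricallyConnected_fieldPt sq
    haveI := isIntegral_fieldPt sq
    have hL't := PicLoc.isInvertible_pullback (p.fiberι t) hL'
    have hJt := isFinLocFreeOfDeg_fiber p hJ' t
    haveI : IsProper (p.fiberToSpecResidueField t) := isProper_fieldPt sq
    haveI : Smooth (p.fiberToSpecResidueField t) := smooth_fieldPt sq
    haveI : GeometricallyConnected (p.fiberToSpecResidueField t) := geometricallyConnected_fieldPt sq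
    exact bijective_smul_of_h1 (p.fiberToSpecResidueField t) (hdim t) hL't (hg t)
      (deg_eq_of_locEq (K := T.residueField t) (hdim t) hL't (hs'.comap (p.fiberι t)) hJt) (h1 t)
      (ne_zero_of_locEq hL't (hs'.comap (p.fiberι t))
        (isEffCartierIdeal_of_deg (K := T.residueField t) (hdim t) _ hJt))
  let v := J'.subschemeι
  have hzero : res' v L' (W := ⊤) (W' := ⊤) le_top s' = 0 :=
    res'_eq_zero_of_le_ker hs' v (le_of_eq J'.ker_subschemeι.symm)
  have key : res' v L' (W := ⊤) (W' := ⊤) le_top (e.hom.app ⊤ s) = 0 := by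
    choose U hU hsurj using fun z : T => exists_nhd_surjective_smul p hL' s' z (hbij z)
    refine TopCat.Sheaf.eq_of_locally_eq' (⟨_, ((Scheme.Modules.pullback v).obj L').isSheaf⟩ :
      TopCat.Sheaf AddCommGrpCat J'.subscheme)
      (fun z : T => v ⁻¹ᵁ (p ⁻¹ᵁ U z)) ⊤ (fun _ => homOfLE le_top)
      (fun z _ => Opens.mem_iSup.2 ⟨p (v z), hU _⟩) _ 0 fun z => ?_
    rw [map_zero]
    show M1.mres _ le_top (res' v L' (W := ⊤) (W' := ⊤) le_top (e.hom.app ⊤ s)) = 0
    obtain ⟨d, hd⟩ := hsurj z (M1.mres L' (le_top : p ⁻¹ᵁ U z ≤ ⊤) (e.hom.app ⊤ s))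
    rw [mres_res', ← res'_mres v L' (le_top : p ⁻¹ᵁ U z ≤ ⊤) le_rfl (e.hom.app ⊤ s), ← hd, res'_smul, res'_mres,
      ← mres_res' v L' (e := le_top) (le_top : v ⁻¹ᵁ (p ⁻¹ᵁ U z) ≤ ⊤), hzero, map_zero, smul_zero]
  have hz : res' v L (W := ⊤) (W' := ⊤) le_top s = 0 := by
    have h2 := map_res' v L' (W := ⊤) (W' := ⊤) le_top e.inv (e.hom.app ⊤ s)
    rw [key, map_zero] at h2
    rwa [show e.inv.app ⊤ (e.hom.app ⊤ s) = s from
      congrArg (fun φ => Scheme.Modules.Hom.app φ ⊤ s) e.hom_inv_id, eq_comm] at h2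
  exact (le_ker_of_res'_eq_zero hs v hz).trans (le_of_eq J'.ker_subschemeι)

include hdim hg in
/-- Isomorphic invertible modules without higher cohomology have the same divisor. -/
theorem eq_of_iso {L L' : X.Modules} (hL : PicF.IsInvertible L) (hL' : PicF.IsInvertible L') (e : L ≅ L')
    {J J' : X.IdealSheafData} {s : Γ(L, (⊤ : X.Opens))} {s' : Γ(L', (⊤ : X.Opens))} (hs : LocEq L J s)
    (hs' : LocEq L' J' s') (hJ : Mor2.IsFinLocFreeOfDeg g (J.subschemeι ≫ p))
    (hJ' : Mor2.IsFinLocFreeOfDeg g (J'.subschemeι ≫ p))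
    (h1 : ∀ t : T, letI : (p.fiber t).Over (Spec (CommRingCat.of (T.residueField t))) := ⟨p.fiberToSpecResidueField t⟩
      Subsingleton (Coh.HH (p.fiber t) ((Scheme.Modules.pullback (p.fiberι t)).obj L') 1)) :
    J = J' :=
  le_antisymm (le_of_iso p hdim hg hL hL' e hs hs' hJ' h1) (le_of_iso p hdim hg hL' hL e.symm hs' hs hJ fun t => by
    letI : (p.fiber t).Over (Spec (CommRingCat.of (T.residueField t))) := ⟨p.fiberToSpecResidueField t⟩
    haveI := h1 t
    exact (hequiv (T.residueField t) ((Scheme.Modules.pullback (p.fiberι t)).mapIso e) 1).toEquiv.subsingleton)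

end Groth.Agent.PicRep20
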